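import Groth.Agent.ProEtPush13.Recollement

/-!
# `j_!` on pro-étale sheaves commutes with limits for quasi-compact open immersions
-/

set_option autoImplicit false
set_option backward.isDefEq.respectTransparency false
set_option backward.isDefEq.respectTransparency.types false
set_option linter.style.haveILetI false

noncomputable section

universe u

open CategoryTheory CategoryTheory.Limits AlgebraicGeometry Opposite

namespace Groth.Agent.ProEtPush13

open Groth.Agent.ProEtLib

variable {Z X U : Scheme.{u}} {i : Z ⟶ X} [IsClosedImmersion i] [ProEtS.PCont i]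
  {j : U ⟶ X} [IsOpenImmersion j] [QuasiCompact j] [ProEtS.JPCont j]

omit [QuasiCompact j] [IsClosedImmersion i] in
theorem isZero_restr_push (hc : Set.range j.base = (Set.range i.base)ᶜ) (H : ProEtS.AbP Z) :
    IsZero ((ProEtS.restrP j).obj ((ProEtS.pushP i).obj H)) := by
  refine (IsZero.iff_id_eq_zero _).2 (Sheaf.hom_ext (NatTrans.ext (funext fun T => ?_)))
  obtain ⟨T⟩ := T
  haveI : IsEmpty ((ProEtS.bcP i).obj ((ProEtS.compP j).obj T)).left := ⟨fun p => by
    have h1 : ((pullback.fst (T.hom ≫ j) i ≫ T.hom ≫ j)).base p ∈ Set.range j.base :=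
      ⟨(pullback.fst (T.hom ≫ j) i ≫ T.hom).base p, (Scheme.Hom.comp_apply _ j p).symm.trans
        (congrArg (fun m : pullback (T.hom ≫ j) i ⟶ X => m.base p) (Category.assoc _ _ _))⟩
    rw [pullback.condition, hc, Scheme.Hom.comp_apply] at h1
    exact h1 ⟨_, rfl⟩⟩
  haveI := subsingleton_sect_of_isEmpty H ((ProEtS.bcP i).obj ((ProEtS.compP j).obj T))
  exact ConcreteCategory.hom_ext _ _ fun s => @Subsingleton.elim (H.obj.obj (op _)) this _ _

omit [QuasiCompact j] [IsClosedImmersion i] in
theorem isZero_pull_extZero (hc : Set.range j.base = (Set.range i.base)ᶜ) (A : ProEtS.AbP U) :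
    IsZero ((ProEtS.pullP i).obj ((ProEtS.extZeroP j).obj A)) :=
  (IsZero.iff_id_eq_zero _).2 (((ProEtS.pullPushAdjP i).homEquiv _ _).injective
    (((ProEtS.extZeroPAdj j).homEquiv _ _).injective ((isZero_restr_push hc _).eq_of_tgt _ _)))

/-- isomorphisms are detected on the two parts -/
theorem isIso_of_parts (hc : Set.range j.base = (Set.range i.base)ᶜ) {F G : ProEtS.AbP X} (φ : F ⟶ G)
    [IsIso ((ProEtS.pullP i).map φ)] [IsIso ((ProEtS.restrP j).map φ)] : IsIso φ := by
  haveI : ProEtS.PCont j := ProEtLib.pCont j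
  let adj : ProEtS.compP j ⊣ ProEtS.bcP j :=
    MorphismProperty.Over.mapPullbackAdj (@WeaklyEtale) ⊤ j inferInstance trivial
  let adjP : ProEtS.restrP j ⊣ ProEtS.pushP j :=
    adj.sheafPushforwardContinuous (E := AddCommGrpCat.{u + 1}) (Scheme.ProEt.topology U) (Scheme.ProEt.topology X)
  let R := ProEtS.restrP j
  let L := ProEtS.pullP i
  haveI : R.IsLeftAdjoint := adjP.isLeftAdjoint
  haveI : R.IsRightAdjoint := (ProEtS.extZeroPAdj j).isRightAdjoint
  haveI : L.IsLeftAdjoint := (ProEtS.pullPushAdjP i).isLeftAdjoint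
  haveI : R.Additive := adjP.left_adjoint_additive
  haveI : L.Additive := (ProEtS.pullPushAdjP i).left_adjoint_additive
  haveI : PreservesLimitsOfSize.{u, u} L := ⟨fun {J} _ => pullP_preservesLimitsOfShape (i := i) J⟩
  haveI : PreservesFiniteLimits L := PreservesLimitsOfSize.preservesFiniteLimits L
  haveI : Mono φ := Preadditive.mono_of_isZero_kernel φ (isZero_of_parts hc _
    ((isZero_kernel_of_mono (L.map φ)).of_iso (PreservesKernel.iso L φ))
    ((isZero_kernel_of_mono (R.map φ)).of_iso (PreservesKernel.iso R φ)))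
  haveI : Epi φ := Preadditive.epi_of_isZero_cokernel φ (isZero_of_parts hc _
    ((isZero_cokernel_of_epi (L.map φ)).of_iso (PreservesCokernel.iso L φ))
    ((isZero_cokernel_of_epi (R.map φ)).of_iso (PreservesCokernel.iso R φ)))
  exact isIso_of_mono_of_epi φ

omit [IsClosedImmersion i] [ProEtS.PCont i] in
theorem extZeroP_preservesLimitsOfShape (J : Type u) [SmallCategory J] :
    PreservesLimitsOfShape J (ProEtS.extZeroP j) := by
  let Zc : TopologicalSpace.Closeds X :=
    ⟨(Set.range j.base)ᶜ, (j.opensRange.2).isClosed_compl⟩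
  let ι := (Scheme.IdealSheafData.vanishingIdeal Zc).subschemeι
  have hc : Set.range j.base = (Set.range ι.base)ᶜ := by
    rw [Scheme.IdealSheafData.range_subschemeι, Scheme.IdealSheafData.coe_support_vanishingIdeal]
    exact (compl_compl _).symm
  haveI : ProEtS.PCont ι := ProEtLib.pCont ι
  haveI : ProEtS.PCont j := ProEtLib.pCont j
  let R := ProEtS.restrP j
  let L := ProEtS.pullP ι
  let E := ProEtS.extZeroP j
  haveI : R.IsRightAdjoint := (ProEtS.extZeroPAdj j).isRightAdjoint
  haveI : IsIso (ProEtS.extZeroPAdj j).unit :=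
    @NatIso.isIso_of_isIso_app _ _ _ _ _ _ _ (fun A => (S0742.result j A A).1)
  haveI : PreservesLimitsOfShape J (E ⋙ R) :=
    preservesLimitsOfShape_of_natIso (asIso (ProEtS.extZeroPAdj j).unit)
  haveI : PreservesLimitsOfSize.{u, u} L := ⟨fun {J} _ => pullP_preservesLimitsOfShape (i := ι) J⟩
  refine ⟨fun {K} => ?_⟩
  haveI : IsIso (R.map (limit.post K E)) := by
    haveI : IsIso (R.map (limit.post K E) ≫ limit.post (K ⋙ E) R) := by
      rw [limit.post_post K E R]
      exact inferInstanceAs (IsIso (limit.post K (E ⋙ R)))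
    exact IsIso.of_isIso_comp_right (R.map (limit.post K E)) (limit.post (K ⋙ E) R)
  haveI : IsIso (L.map (limit.post K E)) :=
    ⟨0, (isZero_pull_extZero hc _).eq_of_src _ _,
      (IsZero.of_iso (IsZero.iff_id_eq_zero _ |>.2 (limit.hom_ext fun k =>
        (isZero_pull_extZero hc (K.obj k)).eq_of_tgt _ _)) (preservesLimitIso L (K ⋙ E))).eq_of_src _ _⟩
  haveI : IsIso (limit.post K E) := isIso_of_parts hc (limit.post K E)
  exact preservesLimit_of_isIso_post (G := E) (F := K)

end Groth.Agent.ProEtPush13
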