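import Groth.Agent.ProEtLib.Cover
import Groth.Agent.S0676
import Groth.Agent.S0675
import Groth.Agent.S0679
import Groth.Agent.WLocalLib.Homeo
import Mathlib.AlgebraicGeometry.Morphisms.Finite
import Mathlib.AlgebraicGeometry.Morphisms.FinitePresentation
import Mathlib.CategoryTheory.Sites.EpiMono

/-!
# Exactness of direct images on pro-étale sites along morphisms preserving weak contractibility
-/

set_option autoImplicit false
set_option backward.isDefEq.respectTransparency false
set_option backward.isDefEq.respectTransparency.types false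
set_option linter.style.haveILetI false

universe u

open CategoryTheory CategoryTheory.Limits AlgebraicGeometry Opposite

namespace Groth.Agent.ProEtPush13

open Groth.Agent.ProEtLib

/-- base change keeps weakly contractible affines affine and weakly contractible -/
def KeepsWC {Z X : Scheme.{u}} (f : Z ⟶ X) : Prop :=
  ∀ (V : Scheme.{u}) (v : V ⟶ X), IsAffine V → EtPBC.IsWContractible Γ(V, ⊤) →
    IsAffine (pullback v f) ∧ EtPBC.IsWContractible Γ(pullback v f, ⊤)

variable {Z X : Scheme.{u}} (f : Z ⟶ X) [ProEtS.PCont f]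

/-- sections lift along epimorphisms over weakly contractible objects -/
theorem exists_lift_ab {G H : ProEtS.AbP Z} (φ : G ⟶ H) [Epi φ] {W : Z.ProEt} (hW : ProEtS.IsWC W)
    (s : H.obj.obj (op W)) : ∃ t : G.obj.obj (op W), φ.hom.app (op W) t = s := by
  haveI : Sheaf.IsLocallySurjective φ := (Sheaf.isLocallySurjective_iff_epi' _ φ).2 inferInstance
  exact hW _ _ ((sheafCompose (Scheme.ProEt.topology Z) (forget AddCommGrpCat.{u + 1})).map φ)
    ((Sheaf.isLocallySurjective_iff_epi _).1 inferInstance) s

theorem pushP_preservesEpimorphisms (hf : KeepsWC f) : (ProEtS.pushP f).PreservesEpimorphisms := by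
  refine ⟨fun {G H} φ _ => (Sheaf.isLocallySurjective_iff_epi' _ _).1 ⟨fun {V} s => ?_⟩⟩
  obtain ⟨ι, W, g, hg, hW⟩ := exists_wc_cover_family V
  refine GrothendieckTopology.superset_covering _ ?_ hg
  refine (Sieve.generate_le_iff _ _).2 ?_
  rintro _ _ ⟨k⟩
  obtain ⟨ha, hw⟩ := hf (W k).left (W k).hom (hW k).1 (hW k).2
  haveI : IsAffine ((ProEtS.bcP f).obj (W k)).left := ha
  exact exists_lift_ab φ (isWC_of_criterion (criterion_of_wContractible hw)) _

theorem pushP_exact (hf : KeepsWC f) :
    PreservesFiniteLimits (ProEtS.pushP f) ∧ PreservesFiniteColimits (ProEtS.pushP f) := by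
  haveI : (ProEtS.pushP f).IsRightAdjoint := (ProEtS.pullPushAdjP f).isRightAdjoint
  haveI hl : PreservesFiniteLimits (ProEtS.pushP f) := inferInstance
  refine ⟨hl, ?_⟩
  haveI := pushP_preservesEpimorphisms f hf
  rw [Functor.preservesFiniteColimits_iff_forall_exact_map_and_epi]
  intro S hS
  have := hS.epi_g
  refine ⟨?_, inferInstance⟩
  exact ((((Functor.preservesFiniteLimits_tfae (ProEtS.pushP f)).out 3 0 rfl rfl).1 hl) S hS).1

omit [ProEtS.PCont f]

/-- finite morphisms of finite presentation keep weak contractibility -/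
theorem keepsWC_finite [IsFinite f] [LocallyOfFinitePresentation f] : KeepsWC f := by
  intro V v hV hw
  let g := pullback.fst v f
  haveI : IsFinite g := MorphismProperty.pullback_fst v f ‹IsFinite f›
  haveI : LocallyOfFinitePresentation g :=
    MorphismProperty.pullback_fst v f ‹LocallyOfFinitePresentation f›
  haveI : IsAffine (pullback v f) := isAffine_of_isAffineHom g
  refine ⟨inferInstance, ?_⟩
  have hfp : g.appTop.hom.FinitePresentation :=
    HasRingHomProperty.appTop (P := @LocallyOfFinitePresentation) g ‹LocallyOfFinitePresentation g›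
  have hfin : g.appTop.hom.Finite := IsFinite.finite_app g ⊤ (isAffineOpen_top _)
  letI : Algebra Γ(V, ⊤) Γ(pullback v f, ⊤) := g.appTop.hom.toAlgebra
  haveI : Module.Finite Γ(V, ⊤) Γ(pullback v f, ⊤) := hfin
  haveI : Algebra.FinitePresentation Γ(V, ⊤) Γ(pullback v f, ⊤) := hfp
  exact S0679.result Γ(V, ⊤) Γ(pullback v f, ⊤) hw

/-- the quotient of a weakly contractible ring by an ideal with constructible zero locus -/
theorem wContractible_quotient {A : Type u} [CommRing A] (hA : EtPBC.IsWContractible A) (I : Ideal A)
    (t : Finset A) (ht : PrimeSpectrum.zeroLocus (R := A) (t : Set A) = PrimeSpectrum.zeroLocus (R := A) I) :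
    EtPBC.IsWContractible (A ⧸ I) := by
  let J : Ideal A := Ideal.span (t : Set A)
  haveI : Algebra.FinitePresentation A (A ⧸ J) :=
    Algebra.FinitePresentation.quotient (A := A) (I := J) ⟨t, rfl⟩
  obtain ⟨hWJ, hEJ, -⟩ := (S0677.result (A ⧸ J)).1 (S0679.result A (A ⧸ J) hA)
  have hret : ProEtW.HasEtaleRetractions A := fun B _ _ hff het =>
    hA B hff inferInstance
  have hI : Set.range (PrimeSpectrum.comap (Ideal.Quotient.mk I)) =
      Set.range (PrimeSpectrum.comap (Ideal.Quotient.mk J)) := by
    rw [range_comap_of_surjective _ _ Ideal.Quotient.mk_surjective, Ideal.mk_ker,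
      range_comap_of_surjective _ _ Ideal.Quotient.mk_surjective, Ideal.mk_ker, PrimeSpectrum.zeroLocus_span, ht]
  let e : PrimeSpectrum (A ⧸ I) ≃ₜ PrimeSpectrum (A ⧸ J) :=
    ((PrimeSpectrum.isClosedEmbedding_comap_of_surjective _ _ Ideal.Quotient.mk_surjective).isEmbedding.toHomeomorph.trans
      (Homeomorph.setCongr hI)).trans
      (PrimeSpectrum.isClosedEmbedding_comap_of_surjective _ _ Ideal.Quotient.mk_surjective).isEmbedding.toHomeomorph.symm
  refine (S0677.result (A ⧸ I)).2 ⟨WLocalLib.isWLocal_homeo e hWJ, ?_, fun m hm => ?_⟩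
  · exact extremallyDisconnected_of_homeo
      (e.symm.isQuotientMap.isCoinducing.connectedComponentsHomeomorph fun y => by
        rw [← e.symm.image_symm, Set.image_singleton]
        exact isConnected_singleton)
  · exact S0675.result (A ⧸ I) (S0676.result A hret I) m

/-- closed immersions with retrocompact complement keep weak contractibility -/
theorem keepsWC_closedImmersion (i : Z ⟶ X) [IsClosedImmersion i] (hr : IsRetrocompact (Set.range i.base)ᶜ) :
    KeepsWC i := by
  intro V v hV hw
  let c := pullback.fst v i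
  haveI : IsClosedImmersion c := MorphismProperty.pullback_fst v i ‹IsClosedImmersion i›
  haveI : IsAffine (pullback v i) := isAffine_of_isAffineHom c
  refine ⟨inferInstance, ?_⟩
  let U : X.Opens := ⟨(Set.range i.base)ᶜ, i.isClosedEmbedding.isClosed_range.isOpen_compl⟩
  haveI : QuasiCompact U.ι := quasiCompact_iff_isSpectralMap.2 (IsRetrocompact_iff_isSpectralMap_subtypeVal.1 hr)
  haveI : QuasiCompact (pullback.fst v U.ι) := MorphismProperty.pullback_fst v U.ι ‹QuasiCompact U.ι›
  haveI : CompactSpace ↥(pullback v U.ι) := QuasiCompact.compactSpace_of_compactSpace (pullback.fst v U.ι)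
  have hcpt : IsCompact (Set.range c.base)ᶜ := by
    rw [Scheme.Pullback.range_fst, ← Set.preimage_compl]
    have h := isCompact_range (pullback.fst v U.ι).continuous
    rw [Scheme.Pullback.range_fst, Scheme.Opens.range_ι] at h
    exact h
  have hsurj : Function.Surjective c.appTop := ((HasAffineProperty.iff_of_isAffine (P := @IsClosedImmersion) (f := c)).1 inferInstance).2
  let I := RingHom.ker c.appTop.hom
  have hrange : V.isoSpec.hom.base '' Set.range c.base = PrimeSpectrum.zeroLocus (R := Γ(V, ⊤)) I := by
    rw [← range_comap_of_surjective _ _ hsurj]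
    have hsq : Spec.map c.appTop = (pullback v i).isoSpec.inv ≫ c ≫ V.isoSpec.hom := by
      rw [← Scheme.isoSpec_hom_naturality c, Iso.inv_hom_id_assoc]
    change _ = Set.range (Spec.map c.appTop).base
    rw [hsq, Scheme.Hom.comp_base, TopCat.coe_comp,
      (show Function.Surjective ((pullback v i).isoSpec.inv : _ → _) from
        (pullback v i).isoSpec.inv.homeomorph.surjective).range_comp, Scheme.Hom.comp_base, TopCat.coe_comp,
      Set.range_comp]
  have hbij : Function.Bijective V.isoSpec.hom.base := V.isoSpec.hom.homeomorph.bijective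
  obtain ⟨t, ht⟩ := (PrimeSpectrum.isCompact_isOpen_iff (s := (PrimeSpectrum.zeroLocus (R := Γ(V, ⊤)) I)ᶜ)).1
    ⟨by
      rw [← hrange, ← Set.image_compl_eq hbij]
      exact hcpt.image V.isoSpec.hom.continuous, (PrimeSpectrum.isClosed_zeroLocus _).isOpen_compl⟩
  exact wContractible_of_ringEquiv (RingHom.quotientKerEquivOfSurjective hsurj)
    (wContractible_quotient hw I t (compl_injective ht))

end Groth.Agent.ProEtPush13
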