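import Groth.Agent.ProEtLib.WC
import Groth.Agent.ProEtLib.Ring
import Groth.Agent.WLocalLib.WEtale
import Groth.Agent.S0706
import Mathlib.CategoryTheory.Sites.Pullback
import Mathlib.AlgebraicGeometry.Morphisms.UniversallyOpen

/-!
# Sections of extensions by zero over pro-étale objects local around a closed set
-/

set_option autoImplicit false
set_option backward.isDefEq.respectTransparency false
set_option backward.isDefEq.respectTransparency.types false
set_option linter.style.haveILetI false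

noncomputable section

universe u

open CategoryTheory CategoryTheory.Limits AlgebraicGeometry Opposite

namespace Groth.Agent.ProEtPush13

open Groth.Agent.ProEtLib

variable {X : Scheme.{u}}

/-- covering sieves of affine objects contain finite jointly surjective families of affines -/
theorem exists_affine_family {U : X.ProEt} [IsAffine U.left] {R : Sieve U}
    (hR : R ∈ Scheme.ProEt.topology X U) :
    ∃ (n : ℕ) (W : Fin n → X.ProEt) (g : ∀ k, W k ⟶ U), (∀ k, IsAffine (W k).left) ∧
      (∀ x, ∃ k, x ∈ Set.range (g k).left.base) ∧ ∀ k, R (g k) := by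
  obtain ⟨T, hT, hle⟩ := (mem_topology_iff R).1 hR
  obtain ⟨ι, V, g, rfl⟩ := T.exists_eq_ofArrows
  rw [ofArrows_mem_precoverage_iff, mem_proetalePrecoverage_iff] at hT
  obtain ⟨hqc, -, hwe⟩ := hT
  obtain ⟨n, f, O, hO, hun⟩ := QuasiCompactCover.exists_isAffineOpen_of_isCompact
    (PreZeroHypercover.mk ι (fun i => (V i).left) fun i => (g i).left)
    (show IsCompact ((⊤ : U.left.Opens) : Set U.left) from isCompact_univ)
  refine ⟨n, fun k => opObj (V (f k)) (O k), fun k => opHom (V (f k)) (O k) ≫ g (f k), fun k => hO k,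
    fun x => ?_, fun k => R.downward_closed (hle _ _ ⟨f k⟩) _⟩
  have hx : x ∈ ⋃ k, ((g (f k)).left '' (O k : Set (V (f k)).left)) := by
    rw [show (⋃ k, ((g (f k)).left '' (O k : Set (V (f k)).left))) = Set.univ from hun]
    trivial
  obtain ⟨k, y, hy, rfl⟩ := Set.mem_iUnion.1 hx
  exact ⟨k, ⟨y, hy⟩, Scheme.Hom.comp_apply _ _ _⟩

/-- the affine pro-étale localization at a closed set of an affine scheme -/
theorem exists_localization (W : Scheme.{u}) [IsAffine W] {C : Set W} (hC : IsClosed C) :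
    ∃ (W' : Scheme.{u}) (p : W' ⟶ W) (_ : IsAffine W') (_ : WeaklyEtale p),
      Set.range p.base = {x | ∃ c ∈ C, x ⤳ c} := by
  let e : W ≅ Spec Γ(W, ⊤) := W.isoSpec
  have hC' : IsClosed (e.inv.base ⁻¹' C) := hC.preimage e.inv.continuous
  obtain ⟨I, hI⟩ := (PrimeSpectrum.isClosed_iff_zeroLocus_ideal _).1 hC'
  obtain ⟨M, hM⟩ := S0706.result Γ(W, ⊤) 1 I
  haveI := WLocalLib.weaklyEtale_localization M (Localization M)
  haveI := weaklyEtale_spec Γ(W, ⊤) (Localization M)
  refine ⟨Spec (CommRingCat.of (Localization M)),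
    Spec.map (CommRingCat.ofHom (algebraMap Γ(W, ⊤) (Localization M))) ≫ e.inv, inferInstance, inferInstance, ?_⟩
  rw [Scheme.Hom.comp_base, TopCat.coe_comp, Set.range_comp]
  change e.inv.base '' Set.range (PrimeSpectrum.comap (algebraMap Γ(W, ⊤) (Localization M))) = _
  rw [hM]
  ext x
  constructor
  · rintro ⟨q, ⟨z, ⟨-, hz⟩, hqz⟩, rfl⟩
    exact ⟨e.inv.base z, hI.ge hz, hqz.map e.inv.continuous⟩
  · rintro ⟨c, hc, hxc⟩
    refine ⟨e.hom.base x, ⟨e.hom.base c, ⟨?_, hI.le ?_⟩, hxc.map e.hom.continuous⟩, by simp [← Scheme.Hom.comp_apply]⟩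
    · simp
    · show e.inv.base (e.hom.base c) ∈ C
      rwa [← Scheme.Hom.comp_apply, e.hom_inv_id]

/-- finite jointly surjective affine families cover -/
theorem mem_topology_of_affine_family {U : X.ProEt} [IsAffine U.left] {R : Sieve U} {n : ℕ}
    (W : Fin n → X.ProEt) (g : ∀ k, W k ⟶ U) (hW : ∀ k, IsAffine (W k).left)
    (hs : ∀ x, ∃ k, x ∈ Set.range (g k).left.base) (hR : ∀ k, R (g k)) :
    R ∈ Scheme.ProEt.topology X U := by
  rw [mem_topology_iff]
  refine ⟨Presieve.ofArrows W g, ?_, fun _ _ ⟨k⟩ => hR k⟩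
  rw [ofArrows_mem_precoverage_iff, mem_proetalePrecoverage_iff]
  refine ⟨⟨fun {O} hO => ?_⟩, hs, fun k => weaklyEtale_left (g k)⟩
  haveI := hW
  haveI : ∀ k, QuasiCompact (g k).left := fun k => inferInstance
  exact .of_finite_of_isSpectralMap (fun k => (g k).left.isSpectralMap)
    (fun x _ => hs x) O.2 hO.isCompact

theorem subsingleton_sect_of_isEmpty (G : ProEtS.AbP X) (W : X.ProEt) [IsEmpty W.left] :
    Subsingleton (G.obj.obj (op W)) :=
  subsingleton_of_isEmpty ((sheafCompose (Scheme.ProEt.topology X) (forget AddCommGrpCat.{u + 1})).obj G) W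

variable {U Z : Scheme.{u}} (j : U ⟶ X) [WeaklyEtale j] (i : Z ⟶ X) [IsClosedImmersion i]
  [ProEtS.JPCont j]

theorem subsingleton_extZero (hUZ : Disjoint (Set.range j.base) (Set.range i.base))
    (V : X.ProEt) [IsAffine V.left]
    (hV : ∀ v : ↥V.left, ∃ z : ↥V.left, V.hom.base z ∈ Set.range i.base ∧ v ⤳ z) (F : ProEtS.AbP U) :
    Subsingleton (ProEtS.sectP ((ProEtS.extZeroP j).obj F) V) := by
  let P := (ProEtS.compP j).op.lan.obj F.obj
  let Q := (presheafToSheaf (Scheme.ProEt.topology X) AddCommGrpCat.{u + 1}).obj P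
  let e : (ProEtS.extZeroP j).obj F ≅ Q :=
    (Functor.sheafPullbackConstruction.sheafPullbackIso (ProEtS.compP j) AddCommGrpCat.{u + 1}
      (Scheme.ProEt.topology U) (Scheme.ProEt.topology X)).app F
  suffices h : ∀ s : Q.obj.obj (op V), s = 0 by
    haveI : Subsingleton (Q.obj.obj (op V)) := ⟨fun a b => (h a).trans (h b).symm⟩
    exact @Function.Injective.subsingleton _ (Q.obj.obj (op V)) _
      (((sheafToPresheaf _ _).mapIso e).app (op V)).addCommGroupIsoToAddEquiv.injective ‹_›
  intro s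
  let η := toSheafify (Scheme.ProEt.topology X) P
  obtain ⟨n, W, g, hW, hs, hR⟩ := exists_affine_family
    (Presheaf.imageSieve_mem (Scheme.ProEt.topology X) η (U := op V) s)
  have hloc : ∀ k, ∃ (W' : X.ProEt) (g' : W' ⟶ W k), IsAffine W'.left ∧
      Set.range g'.left.base = {x | ∃ c ∈ (W k).hom.base ⁻¹' Set.range i.base, x ⤳ c} := fun k => by
    haveI := hW k
    obtain ⟨W₀, p, h1, h2, h3⟩ := exists_localization (W k).left
      (i.isClosedEmbedding.isClosed_range.preimage (W k).hom.continuous)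
    haveI : WeaklyEtale (W k).hom := (W k).prop
    exact ⟨Scheme.ProEt.mk (p ≫ (W k).hom), MorphismProperty.Over.homMk p rfl, h1, h3⟩
  choose W' g' hW' hr using hloc
  refine (((isSheaf_iff_isSheaf_of_type _ _).1
    ((sheafCompose (Scheme.ProEt.topology X) (forget AddCommGrpCat.{u + 1})).obj Q).2) _
      (mem_topology_of_affine_family (R := Presheaf.equalizerSieve (X := op V) (F := Q.obj) s 0) W'
        (fun k => g' k ≫ g k) hW' (fun v => ?_) fun k => ?_)).isSeparatedFor.ext fun _ _ hg => hg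
  · obtain ⟨z, hz, hvz⟩ := hV v
    obtain ⟨k, w, rfl⟩ := hs z
    haveI : WeaklyEtale (g k).left := weaklyEtale_left (g k)
    haveI : Flat (g k).left := WeaklyEtale.flat
    obtain ⟨w₁, hw₁, hw₁'⟩ := Flat.generalizingMap (g k).left hvz
    have hwk : (W k).hom.base w ∈ Set.range i.base := by
      rw [← MorphismProperty.Over.w (g k)]
      exact hz
    obtain ⟨y, hy⟩ := (hr k).ge ⟨w, hwk, hw₁⟩
    exact ⟨k, y, (Scheme.Hom.comp_apply _ _ y).trans ((congrArg (g k).left.base hy).trans hw₁')⟩
  · change Q.obj.map (g' k ≫ g k).op s = Q.obj.map (g' k ≫ g k).op 0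
    by_cases hemp : IsEmpty (W' k).left
    · exact (subsingleton_sect_of_isEmpty Q (W' k)).elim _ _
    obtain ⟨y⟩ := not_isEmpty_iff.1 hemp
    obtain ⟨c, hc, hyc⟩ := (hr k).le ⟨y, rfl⟩
    obtain ⟨t, ht⟩ := hR k
    have hzero : Subsingleton (P.obj (op (W' k))) := by
      haveI : IsEmpty (CostructuredArrow (ProEtS.compP j).op (op (W' k))) := ⟨fun a => by
        obtain ⟨y', hy'⟩ := (hr k).ge ⟨c, hc, specializes_rfl⟩
        let m : W' k ⟶ (ProEtS.compP j).obj a.left.unop := a.hom.unop
        have h1 : (W' k).hom.base y' ∈ Set.range j.base := by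
          rw [← MorphismProperty.Over.w m]
          exact ⟨a.left.unop.hom.base (m.left.base y'), rfl⟩
        have h2 : (W' k).hom.base y' ∈ Set.range i.base := by
          rw [← MorphismProperty.Over.w (g' k)]
          show (W k).hom.base ((g' k).left.base y') ∈ _
          rw [hy']
          exact hc
        exact Set.disjoint_left.1 hUZ h1 h2⟩
      refine AddCommGrpCat.subsingleton_of_isZero ((IsZero.iff_id_eq_zero _).2
        (((ProEtS.compP j).op.isPointwiseLeftKanExtensionLeftKanExtensionUnit F.obj (op (W' k))).hom_ext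
          fun a => isEmptyElim a))
    rw [map_zero, op_comp, Functor.map_comp_apply, ← ht, ← NatTrans.naturality_apply η (g' k).op t,
      @Subsingleton.elim _ hzero (P.map (g' k).op t) 0, map_zero]

end Groth.Agent.ProEtPush13
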