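import Groth.Agent.ProEtPush13.Objects
import Groth.Agent.SitePullUnit.Basic
import Groth.Agent.ProEtLib.LanSheaf

/-!
# Inverse images along closed immersions on pro-étale sites
-/

set_option autoImplicit false
set_option backward.isDefEq.respectTransparency false
set_option backward.isDefEq.respectTransparency.types false
set_option linter.style.haveILetI false

noncomputable section

universe u

open CategoryTheory CategoryTheory.Limits AlgebraicGeometry Opposite

namespace Groth.Agent.ProEtPush13

open Groth.Agent.ProEtLib Groth.Agent.SitePullUnit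

variable {Z X : Scheme.{u}} {i : Z ⟶ X} [ProEtS.PCont i]

/-- sections over a henselian pair are sections of the inverse image over its restriction -/
theorem IsHens.conUnit_bijective {W : X.ProEt} (hW : IsHens i W) (F : ProEtS.AbP X) :
    Function.Bijective ((conUnit (ProEtS.bcP i) (Scheme.ProEt.topology Z) F).app (op W)) := by
  have : RepresentablyFlat (ProEtS.bcP i) := flat_of_preservesFiniteLimits _
  let G := ProEtS.bcP i
  let K := Scheme.ProEt.topology Z
  let d : Z.ProEt := G.obj W
  have hcr : Criterion d := IsGood.criterion ⟨W, hW, ⟨Iso.refl _⟩⟩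
  have hF : Presieve.IsSheaf (Scheme.ProEt.topology X) (F.obj ⋙ forget AddCommGrpCat.{u + 1}) :=
    (isSheaf_iff_isSheaf_of_type _ _).1
      ((sheafCompose (Scheme.ProEt.topology X) (forget AddCommGrpCat.{u + 1})).obj F).2
  have hF0 : ∀ T : X.ProEt, IsEmpty T.left → Subsingleton ((F.obj ⋙ forget AddCommGrpCat.{u + 1}).obj (op T)) :=
    fun T h => subsingleton_of_isEmpty ((sheafCompose (Scheme.ProEt.topology X) (forget AddCommGrpCat.{u + 1})).obj F) T
  have hunit : ∀ x : F.obj.obj (op W),
      (conUnit G K F).app (op W) x = sGerm G K F (𝟙 d) x := fun x => by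
    rw [sGerm, op_id, CategoryTheory.Functor.map_id]
    rfl
  -- gluing the targets of maps from a clopen decomposition
  have glue : ∀ {n : ℕ} (D : Fin n → d.left.Opens),
      Pairwise (fun k l => Disjoint (D k : Set d.left) (D l)) → (∀ x, ∃ k, x ∈ D k) →
      ∀ (U : Fin n → X.ProEt) (b : ∀ k, opObj d (D k) ⟶ G.obj (U k)),
        ∃ (P : X.ProEt) (j : ∀ k, U k ⟶ P) (h : W ⟶ P), (∀ k, opHom d (D k) ≫ G.map h = b k ≫ G.map (j k)) ∧
          (∀ t : ∀ k, F.obj.obj (op (U k)), ∃! s, ∀ k, F.obj.map (j k).op s = t k) ∧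
          ∀ (V : X.ProEt) (g : ∀ k, U k ⟶ V), ∃ m : P ⟶ V, ∀ k, j k ≫ m = g k := by
    intro n D hd hc U b
    obtain ⟨hcol⟩ := isColimit_disjoint d D hd hc
    obtain ⟨P, j, hj, hdj, hcj⟩ := exists_sigma U
    obtain ⟨h, hh⟩ := (hW.map_bijective P).2 (Cofan.IsColimit.desc hcol fun k => b k ≫ G.map (j k))
    refine ⟨P, j, h, fun k => ?_, fun t => existsUnique_glue _ hF hF0 P U j hdj hcj t, fun V g => ?_⟩
    · exact (congrArg (opHom d (D k) ≫ ·) hh).trans (Cofan.IsColimit.fac hcol _ k)
    · exact (existsUnique_glue (yoneda.obj V)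
        (GrothendieckTopology.Subcanonical.isSheaf_of_isRepresentable _)
        (fun T hT => ⟨fun u v => MorphismProperty.Over.Hom.ext (isInitialOfIsEmpty.hom_ext _ _)⟩)
        P U j hdj hcj g).exists
  constructor
  · intro x y hxy
    rw [hunit, hunit] at hxy
    obtain ⟨R, hR, hloc⟩ := exists_cover_of_sGerm_eq G K F _ x y hxy
    obtain ⟨n, D, -, hd, hun, hD⟩ := hcr R hR
    have hc : ∀ z, ∃ k, z ∈ D k := fun z => Set.mem_iUnion.1 (hun.symm ▸ Set.mem_univ z)
    choose U b c hbc hxy' using fun k => hloc _ (hD k)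
    obtain ⟨P, j, h, hh, hglue, hdesc⟩ := glue D hd hc U b
    obtain ⟨m, hm⟩ := hdesc W c
    have hhm : h ≫ m = 𝟙 W := by
      obtain ⟨hcol⟩ := isColimit_disjoint d D hd hc
      refine (hW.map_bijective W).1 (Cofan.IsColimit.hom_ext hcol _ _ fun k => ?_)
      change opHom d (D k) ≫ G.map (h ≫ m) = opHom d (D k) ≫ G.map (𝟙 W)
      rw [G.map_comp, ← Category.assoc, hh k, Category.assoc, ← G.map_comp, hm k, hbc k, G.map_id,
        Category.comp_id]
    have hmap : F.obj.map m.op x = F.obj.map m.op y :=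
      (hglue fun k => F.obj.map (c k).op x).unique
        (fun k => by rw [← ConcreteCategory.comp_apply, ← Functor.map_comp, ← op_comp, hm k])
        (fun k => by rw [← ConcreteCategory.comp_apply, ← Functor.map_comp, ← op_comp, hm k, hxy' k])
    have e := congrArg (F.obj.map h.op) hmap
    simpa only [← ConcreteCategory.comp_apply, ← Functor.map_comp, ← op_comp, hhm, op_id,
      CategoryTheory.Functor.map_id, ConcreteCategory.id_apply] using e
  · intro t
    obtain ⟨R, hR, hloc⟩ := exists_cover_sGerm G K F (d := d) t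
    obtain ⟨n, D, -, hd, hun, hD⟩ := hcr R hR
    have hc : ∀ z, ∃ k, z ∈ D k := fun z => Set.mem_iUnion.1 (hun.symm ▸ Set.mem_univ z)
    choose U b x hx using fun k => hloc _ (hD k)
    obtain ⟨P, j, h, hh, hglue, -⟩ := glue D hd hc U b
    obtain ⟨s, hs, -⟩ := hglue x
    refine ⟨F.obj.map h.op s, ?_⟩
    rw [hunit, sGerm_map, Category.id_comp]
    haveI : ∀ k, IsOpenImmersion (opHom d (D k)).left := fun k => inferInstanceAs (IsOpenImmersion (D k).ι)
    refine ((existsUnique_glue (pulled G K F ⋙ forget AddCommGrpCat.{u + 1}) ((isSheaf_iff_isSheaf_of_type _ _).1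
      ((sheafCompose K (forget AddCommGrpCat.{u + 1})).obj ((presheafToSheaf K AddCommGrpCat.{u + 1}).obj (lanP G F))).2)
      (fun T hT => subsingleton_of_isEmpty ((sheafCompose K (forget AddCommGrpCat.{u + 1})).obj
        ((presheafToSheaf K AddCommGrpCat.{u + 1}).obj (lanP G F))) T)
      d (fun k => opObj d (D k)) (fun k => opHom d (D k)) (fun k l hkl => ?_) (fun z => ?_)
      (fun k => (pulled G K F).map (opHom d (D k)).op t)).unique (fun k => ?_) fun k => rfl)
    · change Disjoint (Set.range (D k).ι.base) (Set.range (D l).ι.base)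
      rw [Scheme.Opens.range_ι, Scheme.Opens.range_ι]
      exact hd hkl
    · obtain ⟨k, hk⟩ := hc z
      exact ⟨k, ⟨z, hk⟩, rfl⟩
    · change (pulled G K F).map (opHom d (D k)).op (sGerm G K F (G.map h) s) = _
      rw [map_sGerm, hh k, ← sGerm_map, hs k, hx k]

/-- the unit at henselian pairs is bijective -/
theorem IsHens.unit_bijective {W : X.ProEt} (hW : IsHens i W) (F : ProEtS.AbP X) :
    Function.Bijective (((ProEtS.pullPushAdjP i).unit.app F).hom.app (op W)) := by
  let ad := Functor.sheafPullbackConstruction.sheafAdjunctionContinuous (ProEtS.bcP i) AddCommGrpCat.{u + 1}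
    (Scheme.ProEt.topology X) (Scheme.ProEt.topology Z)
  have h := Adjunction.unit_leftAdjointUniq_hom_app ad (ProEtS.pullPushAdjP i) F
  let θ : ad.unit.app F ≫ _ = _ := h
  rw [← θ]
  refine Function.Bijective.comp (g := (((ProEtS.pushP i).map ((Adjunction.leftAdjointUniq ad
    (ProEtS.pullPushAdjP i)).hom.app F)).hom.app (op W))) ?_ ?_
  · exact ConcreteCategory.bijective_of_isIso ((((sheafToPresheaf _ _).mapIso ((ProEtS.pushP i).mapIso
      ((Adjunction.leftAdjointUniq ad (ProEtS.pullPushAdjP i)).app F))).app (op W)).hom)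
  · change Function.Bijective ((ad.unit.app F).hom.app (op W))
    rw [unit_con]
    exact hW.conUnit_bijective F

variable [IsClosedImmersion i]

/-- morphisms bijective over good objects are isomorphisms -/
theorem isIso_of_good {G H : ProEtS.AbP Z} (φ : G ⟶ H)
    (h : ∀ W : X.ProEt, IsHens i W → Function.Bijective (φ.hom.app (op ((ProEtS.bcP i).obj W)))) : IsIso φ := by
  have hb : ∀ T : Z.ProEt, IsGood i T → Function.Bijective (φ.hom.app (op T)) := by
    rintro T ⟨W, hW, ⟨e⟩⟩
    have := (ConcreteCategory.isIso_iff_bijective _).2 (h W hW)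
    have e1 : φ.hom.app (op T) = G.obj.map e.hom.op ≫ φ.hom.app (op ((ProEtS.bcP i).obj W)) ≫ H.obj.map e.inv.op := by
      rw [φ.hom.naturality_assoc, ← Functor.map_comp, ← op_comp, e.inv_hom_id, op_id,
        CategoryTheory.Functor.map_id, Category.comp_id]
    rw [e1]
    exact ConcreteCategory.bijective_of_isIso _
  refine (Sheaf.isLocallyBijective_iff_isIso φ).1 ⟨⟨fun {T} x y hxy => ?_⟩, ⟨fun {T} s => ?_⟩⟩
  · obtain ⟨ι, V, g, hg, hV⟩ := exists_good_cover (i := i) T.unop
    refine GrothendieckTopology.superset_covering _ ?_ hg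
    refine (Sieve.generate_le_iff _ _).2 ?_
    rintro _ _ ⟨k⟩
    refine (hb _ (hV k)).1 ?_
    change φ.hom.app _ (G.obj.map (g k).op x) = φ.hom.app _ (G.obj.map (g k).op y)
    rw [NatTrans.naturality_apply, NatTrans.naturality_apply, hxy]
  · obtain ⟨ι, V, g, hg, hV⟩ := exists_good_cover (i := i) T
    refine GrothendieckTopology.superset_covering _ ?_ hg
    refine (Sieve.generate_le_iff _ _).2 ?_
    rintro _ _ ⟨k⟩
    exact (hb _ (hV k)).2 _

theorem counit_isIso (G : ProEtS.AbP Z) : IsIso ((ProEtS.pullPushAdjP i).counit.app G) := by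
  refine isIso_of_good (i := i) _ fun W hW => ?_
  have h := (ProEtS.pullPushAdjP i).right_triangle_components G
  have h' : ⇑(((ProEtS.pullPushAdjP i).counit.app G).hom.app (op ((ProEtS.bcP i).obj W))) ∘
      ⇑(((ProEtS.pullPushAdjP i).unit.app ((ProEtS.pushP i).obj G)).hom.app (op W)) = id :=
    funext fun x => ConcreteCategory.congr_hom (congrArg (fun m => m.hom.app (op W)) h) x
  have hb := hW.unit_bijective ((ProEtS.pushP i).obj G)
  exact (Function.Bijective.of_comp_iff _ hb).1 (h' ▸ Function.bijective_id)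

/-- the inverse image commutes with limits -/
theorem pullP_preservesLimitsOfShape (J : Type u) [SmallCategory J] :
    PreservesLimitsOfShape J (ProEtS.pullP i) := by
  refine ⟨fun {D} => ?_⟩
  haveI : IsIso (limit.post D (ProEtS.pullP i)) := by
    refine isIso_of_good (i := i) _ fun W hW => ?_
    let EX := sheafToPresheaf (Scheme.ProEt.topology X) AddCommGrpCat.{u + 1} ⋙
      (evaluation X.ProEtᵒᵖ AddCommGrpCat.{u + 1}).obj (op W)
    let EZ := sheafToPresheaf (Scheme.ProEt.topology Z) AddCommGrpCat.{u + 1} ⋙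
      (evaluation Z.ProEtᵒᵖ AddCommGrpCat.{u + 1}).obj (op ((ProEtS.bcP i).obj W))
    let α : EX ⟶ ProEtS.pullP i ⋙ EZ :=
      { app := fun F => ((ProEtS.pullPushAdjP i).unit.app F).hom.app (op W)
        naturality := fun F F' f => congrArg (fun m => m.hom.app (op W)) ((ProEtS.pullPushAdjP i).unit.naturality f) }
    haveI : IsIso α := by
      haveI : ∀ F, IsIso (α.app F) := fun F => (ConcreteCategory.isIso_iff_bijective _).2 (hW.unit_bijective F)
      exact NatIso.isIso_of_isIso_app α
    haveI : PreservesLimit D (ProEtS.pullP i ⋙ EZ) := preservesLimit_of_natIso D (asIso α)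
    haveI h1 : IsIso (limit.post D (ProEtS.pullP i ⋙ EZ)) := inferInstance
    rw [← ConcreteCategory.isIso_iff_bijective]
    have h2 := limit.post_post D (ProEtS.pullP i) EZ
    rw [← h2] at h1
    exact IsIso.of_isIso_comp_right (EZ.map (limit.post D (ProEtS.pullP i))) (limit.post (D ⋙ ProEtS.pullP i) EZ)
  exact preservesLimit_of_isIso_post (ProEtS.pullP i) D

end Groth.Agent.ProEtPush13
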