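import Groth.Agent.ProEtPush13.Exact
import Groth.Agent.ProEtPush13.Pull
import Groth.Agent.ProEtPush13.ExtZero
import Groth.Agent.S0742
import Mathlib.Algebra.Homology.ShortComplex.ExactFunctor

/-!
# The recollement sequence on pro-étale sites
-/

set_option autoImplicit false
set_option backward.isDefEq.respectTransparency false
set_option backward.isDefEq.respectTransparency.types false
set_option linter.style.haveILetI false

noncomputable section

universe u

open CategoryTheory CategoryTheory.Limits AlgebraicGeometry Opposite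

namespace Groth.Agent.ProEtPush13

open Groth.Agent.ProEtLib

variable {Z X U : Scheme.{u}} {i : Z ⟶ X} [IsClosedImmersion i] [ProEtS.PCont i]
  {j : U ⟶ X} [IsOpenImmersion j] [QuasiCompact j] [ProEtS.JPCont j]

omit [IsClosedImmersion i] [ProEtS.PCont i] [ProEtS.JPCont j] in
theorem isRetrocompact_compl (hc : Set.range j.base = (Set.range i.base)ᶜ) :
    IsRetrocompact (Set.range i.base)ᶜ := by
  intro O hO hO'
  rw [← hc, Set.inter_comm, ← Set.image_preimage_eq_inter_range]
  exact (QuasiCompact.isCompact_preimage (f := j) O hO' hO).image j.continuous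

/-- sheaves vanishing on both parts vanish -/
theorem isZero_of_parts (hc : Set.range j.base = (Set.range i.base)ᶜ) (G : ProEtS.AbP X)
    (hi : IsZero ((ProEtS.pullP i).obj G)) (hj : IsZero ((ProEtS.restrP j).obj G)) : IsZero G := by
  have hr := isRetrocompact_compl hc
  have key : ∀ (T : X.ProEt) (O : X.Opens), IsAffineOpen O → IsAffine T.left →
      EtPBC.IsWContractible Γ(T.left, ⊤) → (∀ t : T.left, T.hom.base t ∈ O) →
      ∀ s : G.obj.obj (op T), s = 0 := by
    intro T O hO hT hw hrange s
    obtain ⟨ha, hwZ⟩ := keepsWC_closedImmersion i hr T.left T.hom hT hw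
    haveI : IsAffine ((ProEtS.bcP i).obj T).left := ha
    obtain ⟨W, hW, ⟨e⟩⟩ := isGood_of_affine (i := i) O hO ((ProEtS.bcP i).obj T) hwZ fun b => by
      refine Set.mem_of_eq_of_mem ((Scheme.Hom.comp_apply (pullback.snd T.hom i) i b).symm.trans
        ((congrArg (fun m : pullback T.hom i ⟶ X => m.base b) pullback.condition.symm).trans
          (Scheme.Hom.comp_apply (pullback.fst T.hom i) T.hom b))) ?_
      exact hrange _
    obtain ⟨h, hh⟩ := (hW.map_bijective T).2 e.hom
    let P : T.left.Opens := T.hom ⁻¹ᵁ j.opensRange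
    haveI := hT
    haveI cpt : CompactSpace ↥T.left := inferInstance
    haveI : QuasiCompact (pullback.fst T.hom j) := MorphismProperty.pullback_fst T.hom j ‹QuasiCompact j›
    haveI : CompactSpace ↥(pullback T.hom j) :=
      @QuasiCompact.compactSpace_of_compactSpace _ T.left (pullback.fst T.hom j) _ cpt
    have hP : IsCompact (P : Set T.left) := by
      have h := isCompact_range (pullback.fst T.hom j).continuous
      rwa [Scheme.Pullback.range_fst] at h
    obtain ⟨t, ht⟩ := hP.elim_finite_subcover (fun A : {A : T.left.Opens // IsAffineOpen A ∧ A ≤ P} => (A.1 : Set T.left))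
      (fun A => A.1.2) fun x hx => by
        obtain ⟨A, hA, hxA, hAP⟩ := exists_isAffineOpen_mem_and_subset (U := P) hx
        exact Set.mem_iUnion.2 ⟨⟨A, hA, hAP⟩, hxA⟩
    let fam : Option t → X.ProEt := fun o => o.elim W fun A => opObj T A.1.1
    let gam : ∀ o, fam o ⟶ T := fun o => match o with
      | none => h
      | some A => opHom T A.1.1
    obtain ⟨n, ⟨σ⟩⟩ := Finite.exists_equiv_fin (Option t)
    haveI := hT
    refine (((isSheaf_iff_isSheaf_of_type _ _).1
      ((sheafCompose (Scheme.ProEt.topology X) (forget AddCommGrpCat.{u + 1})).obj G).2) _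
        (mem_topology_of_affine_family (R := Presheaf.equalizerSieve (X := op T) (F := G.obj) s 0)
          (fun k => fam (σ.symm k)) (fun k => gam (σ.symm k)) (fun k => ?_) (fun v => ?_) fun k => ?_)).isSeparatedFor.ext
      fun _ _ hg => hg
    · rcases σ.symm k with _ | A
      · exact hW.affine
      · exact A.1.2.1
    · suffices h' : ∃ o, v ∈ Set.range (gam o).left.base by
        obtain ⟨o, ho⟩ := h'
        refine ⟨σ o, ?_⟩
        rw [σ.symm_apply_apply]
        exact ho
      by_cases hv : T.hom.base v ∈ Set.range i.base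
      · obtain ⟨z, hz⟩ := hv
        obtain ⟨p, hp, -⟩ := Scheme.Pullback.exists_preimage_pullback (f := T.hom) (g := i) v z hz.symm
        refine ⟨none, (pullback.fst W.hom i).base (e.inv.left.base p), ?_⟩
        have e1 : e.hom.left ≫ pullback.fst T.hom i = pullback.fst W.hom i ≫ h.left := by
          rw [← hh]
          exact pullback.lift_fst _ _ _
        show h.left.base ((pullback.fst W.hom i).base (e.inv.left.base p)) = v
        refine ((Scheme.Hom.comp_apply (pullback.fst W.hom i) h.left _).symm.trans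
          ((congrArg (fun m : pullback W.hom i ⟶ T.left => m.base (e.inv.left.base p)) e1.symm).trans
            (Scheme.Hom.comp_apply e.hom.left (pullback.fst T.hom i) _))).trans ?_
        have e3 : e.hom.left.base (e.inv.left.base p) = p :=
          (Scheme.Hom.comp_apply e.inv.left e.hom.left p).symm.trans
            (congrArg (fun m : ((ProEtS.bcP i).obj T).left ⟶ ((ProEtS.bcP i).obj T).left => m.base p)
              (congrArg (fun m => m.left) e.inv_hom_id))
        exact (congrArg (pullback.fst T.hom i).base e3).trans hp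
      · have hv' : v ∈ P := by
          show T.hom.base v ∈ Set.range j.base
          rw [hc]; exact hv
        obtain ⟨A, hA, hvA⟩ := Set.mem_iUnion₂.1 (ht hv')
        exact ⟨some ⟨A, hA⟩, ⟨v, hvA⟩, rfl⟩
    · suffices h' : ∀ o, Subsingleton (G.obj.obj (op (fam o))) by
        exact @Subsingleton.elim _ (h' _) _ _
      rintro (_ | A)
      · haveI : Subsingleton (((ProEtS.pullP i).obj G).obj.obj (op ((ProEtS.bcP i).obj W))) :=
          AddCommGrpCat.subsingleton_of_isZero ((sheafToPresheaf _ _ ⋙ (evaluation _ _).obj _).map_isZero hi)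
        exact @Function.Injective.subsingleton _ (((ProEtS.pullP i).obj G).obj.obj (op ((ProEtS.bcP i).obj W))) _
          (hW.unit_bijective G).1 ‹_›
      · let q : (A.1.1 : Scheme.{u}) ⟶ U := IsOpenImmersion.lift j (A.1.1.ι ≫ T.hom) (by
          rintro _ ⟨x, rfl⟩
          rw [Scheme.Hom.comp_apply]
          exact A.1.2.2 x.2)
        have hq : q ≫ j = A.1.1.ι ≫ T.hom := IsOpenImmersion.lift_fac _ _ _
        haveI : WeaklyEtale q := by
          haveI : WeaklyEtale (q ≫ j) := by rw [hq]; infer_instance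
          exact MorphismProperty.of_postcomp (W := @WeaklyEtale) (W' := @WeaklyEtale) q j inferInstance inferInstance
        haveI : Subsingleton (G.obj.obj (op ((ProEtS.compP j).obj (Scheme.ProEt.mk q)))) :=
          AddCommGrpCat.subsingleton_of_isZero
            ((sheafToPresheaf _ _ ⋙ (evaluation _ _).obj (op (Scheme.ProEt.mk q))).map_isZero hj)
        let e2 : (ProEtS.compP j).obj (Scheme.ProEt.mk q) ≅ opObj T A.1.1 :=
          MorphismProperty.Over.isoMk (Iso.refl _) ((Category.id_comp _).trans hq.symm)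
        exact (G.obj.mapIso e2.op).addCommGroupIsoToAddEquiv.injective.subsingleton
  refine (IsZero.iff_id_eq_zero _).2 (Sheaf.hom_ext (NatTrans.ext (funext fun T => ConcreteCategory.hom_ext _ _ fun s => ?_)))
  change s = 0
  obtain ⟨T⟩ := T
  let κ := {p : T.left.Opens × X.Opens // IsAffineOpen p.1 ∧ IsAffineOpen p.2 ∧ p.1 ≤ T.hom ⁻¹ᵁ p.2}
  choose ι V g hg hV using fun p : κ => exists_wc_cover_family (opObj T p.1.1)
  refine (((isSheaf_iff_isSheaf_of_type _ _).1
      ((sheafCompose (Scheme.ProEt.topology X) (forget AddCommGrpCat.{u + 1})).obj G).2) _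
        (mem_topology_of_family (Presheaf.equalizerSieve (X := op T) (F := G.obj) s 0) _ _
          (opens_mem_topology T (fun p : κ => p.1.1) fun x => ?_) fun p => ?_)).isSeparatedFor.ext fun _ _ hg => hg
  · obtain ⟨O, hO, hxO, -⟩ := exists_isAffineOpen_mem_and_subset (U := (⊤ : X.Opens))
      (x := T.hom.base x) trivial
    obtain ⟨P, hP, hxP, hPO⟩ := exists_isAffineOpen_mem_and_subset (U := T.hom ⁻¹ᵁ O) (x := x) hxO
    exact ⟨⟨⟨P, O⟩, hP, hO, hPO⟩, hxP⟩
  · refine GrothendieckTopology.superset_covering _ ((Sieve.generate_le_iff _ _).2 ?_) (hg p)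
    rintro _ _ ⟨k⟩
    have hr' : ∀ t : (V p k).left, (V p k).hom.base t ∈ p.1.2 := fun t => by
      rw [← show (g p k).left ≫ p.1.1.ι ≫ T.hom = (V p k).hom from MorphismProperty.Over.w (g p k)]
      exact p.2.2.2 ((g p k).left.base t).2
    show G.obj.map (g p k ≫ opHom T p.1.1).op s = G.obj.map (g p k ≫ opHom T p.1.1).op 0
    rw [key (V p k) p.1.2 p.2.2.1 (hV p k).1 (hV p k).2 hr' (G.obj.map _ s), map_zero]

theorem recollement (hc : Set.range j.base = (Set.range i.base)ᶜ) (F : ProEtS.AbP X) :
    ∃ h : (ProEtS.extZeroPAdj j).counit.app F ≫ (ProEtS.pullPushAdjP i).unit.app F = 0,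
      (ShortComplex.mk _ _ h).ShortExact := by
  haveI : ProEtS.PCont j := ProEtLib.pCont j
  let adj : ProEtS.compP j ⊣ ProEtS.bcP j :=
    MorphismProperty.Over.mapPullbackAdj (@WeaklyEtale) ⊤ j inferInstance trivial
  let adjP : ProEtS.restrP j ⊣ ProEtS.pushP j :=
    adj.sheafPushforwardContinuous (E := AddCommGrpCat.{u + 1}) (Scheme.ProEt.topology U) (Scheme.ProEt.topology X)
  let R := ProEtS.restrP j
  let L := ProEtS.pullP i
  haveI : R.IsLeftAdjoint := adjP.isLeftAdjoint
  haveI : R.IsRightAdjoint := (ProEtS.extZeroPAdj j).isRightAdjoint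
  haveI : L.IsLeftAdjoint := (ProEtS.pullPushAdjP i).isLeftAdjoint
  haveI : R.Additive := adjP.left_adjoint_additive
  haveI : L.Additive := (ProEtS.pullPushAdjP i).left_adjoint_additive
  haveI : PreservesLimitsOfSize.{u, u} L := ⟨fun {J} _ => pullP_preservesLimitsOfShape (i := i) J⟩
  haveI : PreservesFiniteLimits L := PreservesLimitsOfSize.preservesFiniteLimits L
  have hRi : ∀ H : ProEtS.AbP Z, IsZero (R.obj ((ProEtS.pushP i).obj H)) := fun H => by
    refine (IsZero.iff_id_eq_zero _).2 (Sheaf.hom_ext (NatTrans.ext (funext fun T => ?_)))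
    obtain ⟨T⟩ := T
    haveI : IsEmpty ((ProEtS.bcP i).obj ((ProEtS.compP j).obj T)).left := ⟨fun p => by
      have h1 : ((pullback.fst (T.hom ≫ j) i ≫ T.hom ≫ j)).base p ∈ Set.range j.base :=
        ⟨(pullback.fst (T.hom ≫ j) i ≫ T.hom).base p, (Scheme.Hom.comp_apply _ j p).symm.trans
          (congrArg (fun m : pullback (T.hom ≫ j) i ⟶ X => m.base p) (Category.assoc _ _ _))⟩
      rw [pullback.condition, hc, Scheme.Hom.comp_apply] at h1
      exact h1 ⟨_, rfl⟩⟩
    haveI := subsingleton_sect_of_isEmpty H ((ProEtS.bcP i).obj ((ProEtS.compP j).obj T))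
    exact ConcreteCategory.hom_ext _ _ fun s => @Subsingleton.elim (H.obj.obj (op _)) this _ _
  have hLj : ∀ A : ProEtS.AbP U, IsZero (L.obj ((ProEtS.extZeroP j).obj A)) := fun A =>
    (IsZero.iff_id_eq_zero _).2 (((ProEtS.pullPushAdjP i).homEquiv _ _).injective
      (((ProEtS.extZeroPAdj j).homEquiv _ _).injective ((hRi _).eq_of_tgt _ _)))
  let c := (ProEtS.extZeroPAdj j).counit.app F
  let η := (ProEtS.pullPushAdjP i).unit.app F
  have w : c ≫ η = 0 := ((ProEtS.extZeroPAdj j).homEquiv _ _).injective ((hRi _).eq_of_tgt _ _)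
  refine ⟨w, ?_⟩
  let S := ShortComplex.mk c η w
  haveI hRc : IsIso (R.map c) :=
    @IsIso.of_isIso_fac_left _ _ _ _ _ _ _ _ ((S0742.result j (R.obj F) (R.obj F)).1) (IsIso.id _)
      ((ProEtS.extZeroPAdj j).right_triangle_components F)
  haveI hLη : IsIso (L.map η) :=
    @IsIso.of_isIso_fac_right _ _ _ _ _ _ _ _ (counit_isIso (i := i) (L.obj F)) (IsIso.id _)
      ((ProEtS.pullPushAdjP i).left_triangle_components F)
  have hR : (S.map R).Exact ∧ Mono (R.map c) ∧ Epi (R.map η) :=
    ⟨(ShortComplex.exact_iff_epi _ ((hRi _).eq_of_tgt _ _)).2 (inferInstanceAs (Epi (R.map c))), inferInstance,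
      (IsZero.iff_id_eq_zero _).1 (hRi (L.obj F)) |> fun h0 => ⟨fun a b _ => (hRi (L.obj F)).eq_of_src _ _⟩⟩
  have hL : (S.map L).Exact ∧ Mono (L.map c) ∧ Epi (L.map η) :=
    ⟨(ShortComplex.exact_iff_mono _ ((hLj _).eq_of_src _ _)).2 (inferInstanceAs (Mono (L.map η))),
      ⟨fun a b _ => (hLj (R.obj F)).eq_of_tgt _ _⟩, inferInstance⟩
  refine ShortComplex.ShortExact.mk' ?_ ?_ ?_
  · rw [ShortComplex.exact_iff_isZero_homology]
    exact isZero_of_parts hc _ (((ShortComplex.exact_iff_isZero_homology _).1 hL.1).of_iso (S.mapHomologyIso L).symm)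
      (((ShortComplex.exact_iff_isZero_homology _).1 hR.1).of_iso (S.mapHomologyIso R).symm)
  · haveI := hL.2.1
    haveI := hR.2.1
    exact Preadditive.mono_of_isZero_kernel c (isZero_of_parts hc _
      ((isZero_kernel_of_mono (L.map c)).of_iso (PreservesKernel.iso L c))
      ((isZero_kernel_of_mono (R.map c)).of_iso (PreservesKernel.iso R c)))
  · haveI := hL.2.2
    haveI := hR.2.2
    exact Preadditive.epi_of_isZero_cokernel η (isZero_of_parts hc _
      ((isZero_cokernel_of_epi (L.map η)).of_iso (PreservesCokernel.iso L η))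
      ((isZero_cokernel_of_epi (R.map η)).of_iso (PreservesCokernel.iso R η)))

end Groth.Agent.ProEtPush13
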