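import Groth.Agent.ProEtPush13.Ring
import Groth.Agent.ProEtLib.LanSheaf
import Groth.Agent.ProEtLib.Cover

/-!
# Weakly étale morphisms over henselian pairs with weakly contractible closed part
-/

set_option autoImplicit false
set_option backward.isDefEq.respectTransparency false
set_option backward.isDefEq.respectTransparency.types false
set_option linter.style.haveILetI false

noncomputable section

universe u

open CategoryTheory CategoryTheory.Limits AlgebraicGeometry Opposite TensorProduct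

namespace Groth.Agent.ProEtPush13

open Groth.Agent.ProEtLib

/-- a henselian pair of affine schemes with weakly contractible closed part -/
structure IsHensPair {W₀ W : Scheme.{u}} (c : W₀ ⟶ W) : Prop where
  affine : IsAffine W
  closedImm : IsClosedImmersion c
  hens : HenselianRing Γ(W, ⊤) (RingHom.ker c.appTop.hom)
  wc : EtPBC.IsWContractible (Γ(W, ⊤) ⧸ RingHom.ker c.appTop.hom)

theorem exists_hom_appTop {W P : Scheme.{u}} [IsAffine W] [IsAffine P] (t : Γ(P, ⊤) ⟶ Γ(W, ⊤)) :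
    ∃ s : W ⟶ P, s.appTop = t := by
  refine ⟨W.isoSpec.hom ≫ Spec.map t ≫ P.isoSpec.inv, Spec.map_injective ?_⟩
  have h := Scheme.isoSpec_hom_naturality (W.isoSpec.hom ≫ Spec.map t ≫ P.isoSpec.inv)
  rw [Category.assoc, Category.assoc, Iso.inv_hom_id, Category.comp_id] at h
  exact (cancel_epi W.isoSpec.hom).1 h

variable {W₀ W : Scheme.{u}} {c : W₀ ⟶ W}

theorem IsHensPair.affine₀ (hc : IsHensPair c) : IsAffine W₀ := by
  haveI := hc.affine
  haveI := hc.closedImm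
  exact isAffine_of_isAffineHom c

theorem IsHensPair.surjective_appTop (hc : IsHensPair c) : Function.Surjective c.appTop := by
  haveI := hc.affine
  haveI := hc.closedImm
  exact ((HasAffineProperty.iff_of_isAffine (P := @IsClosedImmersion) (f := c)).1 inferInstance).2

/-- the ambient ring is weakly contractible -/
theorem IsHensPair.wContractible (hc : IsHensPair c) : EtPBC.IsWContractible Γ(W, ⊤) := by
  intro B _ _ hff hwe
  haveI := hc.hens
  haveI := hff
  haveI := hwe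
  let I := RingHom.ker c.appTop.hom
  obtain ⟨r⟩ := hc.wc ((Γ(W, ⊤) ⧸ I) ⊗[Γ(W, ⊤)] B) inferInstance inferInstance
  obtain ⟨τ, -⟩ := exists_lift hc.wc
    ((r.restrictScalars Γ(W, ⊤)).comp (Algebra.TensorProduct.includeRight (R := Γ(W, ⊤)) (A := Γ(W, ⊤) ⧸ I) (B := B)))
  exact ⟨τ⟩

/-- closed points lie in the closed part -/
theorem IsHensPair.mem_range (hc : IsHensPair c) {w : W} (hw : IsClosed ({w} : Set W)) : w ∈ Set.range c.base := by
  haveI := hc.affine
  haveI := hc.closedImm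
  haveI := hc.hens
  haveI := hc.affine₀
  let m : PrimeSpectrum Γ(W, ⊤) := W.isoSpec.hom.base w
  have hm : m.asIdeal.IsMaximal := by
    refine (PrimeSpectrum.isClosed_singleton_iff_isMaximal m).1 ?_
    have h := W.isoSpec.hom.homeomorph.isClosed_image.2 hw
    rw [Set.image_singleton] at h
    exact h
  have hI : RingHom.ker c.appTop.hom ≤ m.asIdeal := (HenselianRing.jac (I := RingHom.ker c.appTop.hom)).trans
    (sInf_le ⟨bot_le, hm⟩)
  obtain ⟨q, hq⟩ := (range_comap_of_surjective _ _ hc.surjective_appTop).ge ((PrimeSpectrum.mem_zeroLocus _ _).2 hI)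
  refine ⟨W₀.isoSpec.inv.base q, W.isoSpec.hom.homeomorph.injective ?_⟩
  show W.isoSpec.hom.base (c.base (W₀.isoSpec.inv.base q)) = m
  rw [← Scheme.Hom.comp_apply, ← Scheme.Hom.comp_apply, ← Scheme.isoSpec_hom_naturality c, Iso.inv_hom_id_assoc]
  exact hq

/-- sections over the closed part extend -/
theorem IsHensPair.exists_section (hc : IsHensPair c) {P : Scheme.{u}} [IsAffine P] (q : P ⟶ W) [WeaklyEtale q]
    (g : W₀ ⟶ P) (hg : g ≫ q = c) : ∃ s : W ⟶ P, s ≫ q = 𝟙 W ∧ c ≫ s = g := by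
  haveI := hc.affine
  haveI := hc.affine₀
  haveI := hc.hens
  letI := q.appTop.hom.toAlgebra
  have hsq : Spec.map q.appTop = P.isoSpec.inv ≫ q ≫ W.isoSpec.hom := by
    rw [← Scheme.isoSpec_hom_naturality q, Iso.inv_hom_id_assoc]
  have hw : WeaklyEtale (Spec.map q.appTop) := by rw [hsq]; infer_instance
  haveI : Algebra.WeaklyEtale Γ(W, ⊤) Γ(P, ⊤) := (weaklyEtale_spec_iff _).1 hw
  let e := RingHom.quotientKerEquivOfSurjective hc.surjective_appTop
  have hgt : ∀ a, g.appTop (q.appTop a) = c.appTop a := fun a => by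
    rw [← hg, Scheme.Hom.comp_appTop]
    rfl
  let σ : Γ(P, ⊤) →ₐ[Γ(W, ⊤)] Γ(W, ⊤) ⧸ RingHom.ker c.appTop.hom :=
    { e.symm.toRingHom.comp g.appTop.hom with
      commutes' := fun a => e.injective (by
        show e (e.symm (g.appTop (q.appTop a))) = e (Ideal.Quotient.mk _ a)
        rw [e.apply_symm_apply, hgt]
        rfl) }
  obtain ⟨τ, hτ⟩ := exists_lift hc.wc σ
  obtain ⟨s, hs⟩ := exists_hom_appTop (W := W) (P := P) (CommRingCat.ofHom τ.toRingHom)
  refine ⟨s, ext_of_isAffine ?_, ext_of_isAffine ?_⟩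
  · rw [Scheme.Hom.comp_appTop, hs]
    ext a
    exact τ.commutes a
  · rw [Scheme.Hom.comp_appTop, hs]
    ext b
    have h := congrArg e (congr($hτ b))
    exact h.trans (e.apply_symm_apply _)

/-- disjoint clopen refinements of open covers -/
theorem IsHensPair.exists_clopens (hc : IsHensPair c) {ι : Type u} (Q : ι → W.Opens) (hQ : ∀ w, ∃ i, w ∈ Q i) :
    ∃ (n : ℕ) (D : Fin n → W.Opens) (σ : Fin n → ι), (∀ k, IsClopen (D k : Set W)) ∧
      Pairwise (fun k l => Disjoint (D k : Set W) (D l)) ∧ (∀ w, ∃ k, w ∈ D k) ∧ ∀ k, D k ≤ Q (σ k) := by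
  haveI := hc.affine
  let U : W.ProEt := ProEtS.topP W
  haveI : IsAffine U.left := hc.affine
  obtain ⟨n, D, hcl, hd, hun, hR⟩ := criterion_of_wContractible (U := U) hc.wContractible _
    (opens_mem_topology U Q hQ)
  have key : ∀ k, ∃ i, D k ≤ Q i := fun k => by
    obtain ⟨Y, h, _, ⟨i⟩, he⟩ := hR k
    refine ⟨i, fun w hw => ?_⟩
    have e := congrArg (fun f : (opObj U (D k)).left ⟶ U.left => f.base ⟨w, hw⟩) (congrArg (fun f => f.left) he)
    have hm : (h.left ≫ (Q i).ι).base ⟨w, hw⟩ ∈ Q i := (h.left.base ⟨w, hw⟩).2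
    exact Set.mem_of_eq_of_mem e.symm hm
  choose σ hσ using key
  exact ⟨n, D, σ, hcl, hd, fun w => Set.mem_iUnion.1 (hun.symm ▸ Set.mem_univ w), hσ⟩

theorem IsHensPair.isAffine_clopen (hc : IsHensPair c) {D : W.Opens} (hD : IsClopen (D : Set W)) :
    IsAffine (D : Scheme.{u}) := by
  haveI := hc.affine
  haveI : IsClosedImmersion D.ι := .of_isPreimmersion _ (by rw [Scheme.Opens.range_ι]; exact hD.1)
  exact isAffine_of_isAffineHom D.ι

/-- every point lies below a point of the closed part in a given clopen -/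
theorem IsHensPair.exists_closed_le (hc : IsHensPair c) (w : W) :
    ∃ w₀ : W₀, w ⤳ c.base w₀ := by
  haveI := hc.affine
  obtain ⟨m, hm, hwm⟩ := (W.isoSpec.hom.base w).asIdeal.exists_le_maximal (W.isoSpec.hom.base w).2.ne_top
  let q : PrimeSpectrum Γ(W, ⊤) := ⟨m, hm.isPrime⟩
  let w' := W.isoSpec.hom.homeomorph.symm q
  have hcl : IsClosed ({w'} : Set W) := by
    have h := W.isoSpec.hom.homeomorph.symm.isClosed_image.2 ((PrimeSpectrum.isClosed_singleton_iff_isMaximal q).2 hm)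
    rw [Set.image_singleton] at h
    exact h
  obtain ⟨w₀, hw₀⟩ := hc.mem_range hcl
  refine ⟨w₀, hw₀ ▸ ?_⟩
  have h := ((PrimeSpectrum.le_iff_specializes _ q).1 hwm).map W.isoSpec.hom.homeomorph.symm.continuous
  change W.isoSpec.hom.homeomorph.symm (W.isoSpec.hom.homeomorph w) ⤳ w' at h
  rwa [Homeomorph.symm_apply_apply] at h

/-- morphisms from a henselian pair into weakly étale objects are determined on the closed part -/
theorem IsHensPair.hom_ext (hc : IsHensPair c) {X V : Scheme.{u}} (v : V ⟶ X) [WeaklyEtale v]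
    {h h' : W ⟶ V} (hv : h ≫ v = h' ≫ v) (he : c ≫ h = c ≫ h') : h = h' := by
  haveI := hc.affine
  haveI := hc.closedImm
  haveI := hc.affine₀
  haveI := hc.hens
  have key : ∀ w₀ : W₀, ∃ (U : X.Opens) (O : V.Opens), IsAffineOpen U ∧ IsAffineOpen O ∧ O ≤ v ⁻¹ᵁ U ∧
      h.base (c.base w₀) ∈ O := fun w₀ => by
    obtain ⟨U, hU, hxU, -⟩ := exists_isAffineOpen_mem_and_subset (U := (⊤ : X.Opens))
      (x := v.base (h.base (c.base w₀))) trivial
    obtain ⟨O, hO, hxO, hOU⟩ := exists_isAffineOpen_mem_and_subset (U := v ⁻¹ᵁ U) (x := h.base (c.base w₀)) hxU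
    exact ⟨U, O, hU, hO, hOU, hxO⟩
  choose U O hU hO hOU hmem using key
  let Q : W₀ → W.Opens := fun w₀ => h ⁻¹ᵁ O w₀ ⊓ h' ⁻¹ᵁ O w₀
  have hQ : ∀ w, ∃ w₀, w ∈ Q w₀ := fun w => by
    obtain ⟨w₀, hw₀⟩ := hc.exists_closed_le w
    have h2 : h'.base (c.base w₀) ∈ O w₀ := by
      rw [← Scheme.Hom.comp_apply, ← he, Scheme.Hom.comp_apply]
      exact hmem w₀
    exact ⟨w₀, hw₀.mem_open (Q w₀).isOpen ⟨hmem w₀, h2⟩⟩
  obtain ⟨n, D, σ, hcl, -, hcov, hle⟩ := hc.exists_clopens Q hQ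
  refine (W.openCoverOfIsOpenCover D (TopologicalSpace.IsOpenCover.mk (eq_top_iff.2 fun w _ =>
    TopologicalSpace.Opens.mem_iSup.2 (hcov w)))).hom_ext _ _ fun k => ?_
  change (D k).ι ≫ h = (D k).ι ≫ h'
  let U' := U (σ k); let O' := O (σ k)
  haveI : IsAffine (D k : Scheme.{u}) := hc.isAffine_clopen (hcl k)
  haveI : IsAffine (O' : Scheme.{u}) := hO (σ k)
  haveI : IsAffine (U' : Scheme.{u}) := hU (σ k)
  have l1 : Set.range ((D k).ι ≫ h).base ⊆ Set.range O'.ι.base := by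
    rintro _ ⟨x, rfl⟩
    rw [Scheme.Opens.range_ι, Scheme.Hom.comp_apply]
    exact (hle k x.2).1
  have l2 : Set.range ((D k).ι ≫ h').base ⊆ Set.range O'.ι.base := by
    rintro _ ⟨x, rfl⟩
    rw [Scheme.Opens.range_ι, Scheme.Hom.comp_apply]
    exact (hle k x.2).2
  let f := IsOpenImmersion.lift O'.ι _ l1
  let f' := IsOpenImmersion.lift O'.ι _ l2
  suffices hff : f = f' by
    rw [← IsOpenImmersion.lift_fac O'.ι _ l1, ← IsOpenImmersion.lift_fac O'.ι _ l2]
    exact congrArg (· ≫ O'.ι) hff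
  let p : (O' : Scheme.{u}) ⟶ (U' : Scheme.{u}) := v.resLE U' O' (hOU (σ k))
  have hp : p ≫ U'.ι = O'.ι ≫ v := Scheme.Hom.resLE_comp_ι _ _
  haveI : WeaklyEtale (p ≫ U'.ι) := hp ▸ inferInstance
  haveI : WeaklyEtale p := MorphismProperty.of_postcomp (W := @WeaklyEtale) (W' := @WeaklyEtale) p U'.ι
    inferInstance inferInstance
  have hfp : f ≫ p = f' ≫ p := by
    rw [← cancel_mono U'.ι, Category.assoc, Category.assoc, hp, IsOpenImmersion.lift_fac_assoc,
      IsOpenImmersion.lift_fac_assoc, Category.assoc, Category.assoc, hv]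
  let c' := pullback.snd c (D k).ι
  haveI : IsAffine (pullback c (D k).ι) := isAffine_of_isAffineHom c'
  have hcf : c' ≫ f = c' ≫ f' := by
    rw [← cancel_mono O'.ι, Category.assoc, Category.assoc, IsOpenImmersion.lift_fac, IsOpenImmersion.lift_fac,
      ← pullback.condition_assoc, ← pullback.condition_assoc, he]
  letI := p.appTop.hom.toAlgebra
  letI := (p.appTop ≫ f.appTop).hom.toAlgebra
  haveI : Algebra.WeaklyEtale Γ(U', ⊤) Γ(O', ⊤) := by
    have hsq : Spec.map p.appTop = (O' : Scheme.{u}).isoSpec.inv ≫ p ≫ (U' : Scheme.{u}).isoSpec.hom := by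
      rw [← Scheme.isoSpec_hom_naturality p, Iso.inv_hom_id_assoc]
    exact (weaklyEtale_spec_iff _).1 (by rw [hsq]; infer_instance)
  let F : Γ(O', ⊤) →ₐ[Γ(U', ⊤)] Γ(D k, ⊤) := { f.appTop.hom with commutes' := fun a => rfl }
  have hF' : ∀ a, f'.appTop.hom (algebraMap Γ(U', ⊤) Γ(O', ⊤) a) = algebraMap Γ(U', ⊤) Γ(D k, ⊤) a := by
    intro a
    have e := congrArg (fun m : (D k : Scheme.{u}) ⟶ (U' : Scheme.{u}) => m.appTop a) hfp
    simp only [Scheme.Hom.comp_appTop] at e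
    exact e.symm
  let F' : Γ(O', ⊤) →ₐ[Γ(U', ⊤)] Γ(D k, ⊤) := { f'.appTop.hom with commutes' := hF' }
  have hjac : RingHom.ker c'.appTop.hom ≤ Ideal.jacobson ⊥ := by
    refine le_sInf fun m ⟨_, hm⟩ => ?_
    let y := (D k : Scheme.{u}).isoSpec.hom.homeomorph.symm ⟨m, hm.isPrime⟩
    have hy : IsClosed ({y} : Set (D k : Scheme.{u})) := by
      have h := (D k : Scheme.{u}).isoSpec.hom.homeomorph.symm.isClosed_image.2
        ((PrimeSpectrum.isClosed_singleton_iff_isMaximal ⟨m, hm.isPrime⟩).2 hm)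
      rw [Set.image_singleton] at h
      exact h
    have hy' : IsClosed ({(D k).ι.base y} : Set W) := by
      have hce : Topology.IsClosedEmbedding (D k).ι.base :=
        ⟨(D k).ι.isOpenEmbedding.isEmbedding, by rw [Scheme.Opens.range_ι]; exact (hcl k).1⟩
      have h := hce.isClosedMap _ hy
      rwa [Set.image_singleton] at h
    obtain ⟨w₀, hw₀⟩ := hc.mem_range hy'
    obtain ⟨z, -, hz⟩ := Scheme.Pullback.exists_preimage_pullback (f := c) (g := (D k).ι) w₀ y hw₀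
    intro a ha
    have hsq : Spec.map c'.appTop = (pullback c (D k).ι).isoSpec.inv ≫ c' ≫ (D k : Scheme.{u}).isoSpec.hom := by
      rw [← Scheme.isoSpec_hom_naturality c', Iso.inv_hom_id_assoc]
    have hm' : (Spec.map c'.appTop).base ((pullback c (D k).ι).isoSpec.hom.base z) = ⟨m, hm.isPrime⟩ := by
      rw [hsq, ← Scheme.Hom.comp_apply, Iso.hom_inv_id_assoc, Scheme.Hom.comp_apply]
      show (D k : Scheme.{u}).isoSpec.hom.homeomorph (c'.base z) = _
      rw [show c'.base z = y from hz]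
      exact Homeomorph.apply_symm_apply _ _
    have h3 := congrArg PrimeSpectrum.asIdeal hm'
    change _ = m at h3
    rw [← h3]
    refine Ideal.mem_comap.2 ?_
    show c'.appTop a ∈ ((pullback c (D k).ι).isoSpec.hom.base z).asIdeal
    rw [show c'.appTop a = 0 from RingHom.mem_ker.1 ha]
    exact zero_mem _
  have hFF : F = F' := lift_unique hjac F F' fun b => by
    rw [Ideal.Quotient.eq, RingHom.mem_ker, map_sub, sub_eq_zero]
    have e := congrArg (fun m : pullback c (D k).ι ⟶ (O' : Scheme.{u}) => m.appTop b) hcf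
    simp only [] at e
    rw [Scheme.Hom.comp_appTop, Scheme.Hom.comp_appTop] at e
    exact e
  exact ext_of_isAffine (CommRingCat.hom_ext (congrArg AlgHom.toRingHom hFF))

/-- morphisms on the closed part extend uniquely -/
theorem IsHensPair.existsUnique_hom (hc : IsHensPair c) {X V : Scheme.{u}} (v : V ⟶ X) [WeaklyEtale v]
    (a : W ⟶ X) (g : W₀ ⟶ V) (hg : g ≫ v = c ≫ a) : ∃! h : W ⟶ V, h ≫ v = a ∧ c ≫ h = g := by
  haveI := hc.affine
  haveI := hc.closedImm
  have key : ∀ w₀ : W₀, ∃ (U : X.Opens) (O : V.Opens) (Q : W.Opens), IsAffineOpen U ∧ IsAffineOpen O ∧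
      O ≤ v ⁻¹ᵁ U ∧ Q ≤ a ⁻¹ᵁ U ∧ c.base w₀ ∈ Q ∧ c ⁻¹ᵁ Q ≤ g ⁻¹ᵁ O := fun w₀ => by
    obtain ⟨U, hU, hxU, -⟩ := exists_isAffineOpen_mem_and_subset (U := (⊤ : X.Opens))
      (x := v.base (g.base w₀)) trivial
    obtain ⟨O, hO, hxO, hOU⟩ := exists_isAffineOpen_mem_and_subset (U := v ⁻¹ᵁ U) (x := g.base w₀) hxU
    obtain ⟨Q, hQ, hQe⟩ := c.isClosedEmbedding.isInducing.isOpen_iff.1 (g ⁻¹ᵁ O).isOpen
    have hxQ : c.base w₀ ∈ Q := by
      have : w₀ ∈ c.base ⁻¹' Q := hQe.ge hxO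
      exact this
    have hxa : a.base (c.base w₀) ∈ U := by
      rw [← Scheme.Hom.comp_apply, ← hg, Scheme.Hom.comp_apply]
      exact hxU
    exact ⟨U, O, ⟨Q, hQ⟩ ⊓ a ⁻¹ᵁ U, hU, hO, hOU, inf_le_right, ⟨hxQ, hxa⟩, fun y hy => hQe.le hy.1⟩
  choose U O Q hU hO hOU hQU hmem hQO using key
  obtain ⟨n, D, σ, hcl, hd, hcov, hle⟩ := hc.exists_clopens Q fun w => by
    obtain ⟨w₀, hw₀⟩ := hc.exists_closed_le w
    exact ⟨w₀, hw₀.mem_open (Q w₀).isOpen (hmem w₀)⟩
  haveI : ∀ k, IsAffine (D k : Scheme.{u}) := fun k => hc.isAffine_clopen (hcl k)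
  let a' : ∀ k, (D k : Scheme.{u}) ⟶ (U (σ k) : Scheme.{u}) := fun k =>
    a.resLE _ _ ((hle k).trans (hQU (σ k)))
  have ha' : ∀ k, a' k ≫ (U (σ k)).ι = (D k).ι ≫ a := fun k => Scheme.Hom.resLE_comp_ι _ _
  let p : ∀ k, (O (σ k) : Scheme.{u}) ⟶ (U (σ k) : Scheme.{u}) := fun k => v.resLE _ _ (hOU (σ k))
  have hp : ∀ k, p k ≫ (U (σ k)).ι = (O (σ k)).ι ≫ v := fun k => Scheme.Hom.resLE_comp_ι _ _
  have hpw : ∀ k, WeaklyEtale (p k) := fun k => by
    haveI : WeaklyEtale (p k ≫ (U (σ k)).ι) := hp k ▸ inferInstance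
    exact MorphismProperty.of_postcomp (W := @WeaklyEtale) (W' := @WeaklyEtale) (p k) (U (σ k)).ι
      inferInstance inferInstance
  let P : ULift.{u} (Fin n) → Scheme.{u} := fun k => pullback (a' k.down) (p k.down)
  haveI : ∀ k, IsAffine (P k) := fun k => by
    haveI : IsAffine (O (σ k.down) : Scheme.{u}) := hO (σ k.down)
    haveI : IsAffine (U (σ k.down) : Scheme.{u}) := hU (σ k.down)
    infer_instance
  let q : ∀ k, P k ⟶ W := fun k => pullback.fst (a' k.down) (p k.down) ≫ (D k.down).ι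
  haveI : ∀ k, WeaklyEtale (q k) := fun k => by
    haveI : WeaklyEtale (pullback.fst (a' k.down) (p k.down)) :=
      MorphismProperty.pullback_fst (P := @WeaklyEtale) (a' k.down) (p k.down) (hpw k.down)
    infer_instance
  haveI : WeaklyEtale (Sigma.desc q) := IsZariskiLocalAtSource.sigmaDesc inferInstance
  let 𝒰 := W₀.openCoverOfIsOpenCover (fun k : ULift.{u} (Fin n) => c ⁻¹ᵁ D k.down)
    (TopologicalSpace.IsOpenCover.mk (eq_top_iff.2 fun x _ => TopologicalSpace.Opens.mem_iSup.2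
      ⟨⟨(hcov (c.base x)).choose⟩, (hcov (c.base x)).choose_spec⟩))
  let g₁ : ∀ k : ULift.{u} (Fin n), (c ⁻¹ᵁ D k.down : Scheme.{u}) ⟶ (O (σ k.down) : Scheme.{u}) := fun k =>
    g.resLE _ _ (le_trans ((TopologicalSpace.Opens.map c.base).map (homOfLE (hle k.down))).le (hQO (σ k.down)))
  let c₁ : ∀ k : ULift.{u} (Fin n), (c ⁻¹ᵁ D k.down : Scheme.{u}) ⟶ (D k.down : Scheme.{u}) := fun k =>
    c.resLE _ _ le_rfl
  let g₂ : ∀ k : ULift.{u} (Fin n), (c ⁻¹ᵁ D k.down : Scheme.{u}) ⟶ ∐ P := fun k =>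
    pullback.lift (c₁ k) (g₁ k) (by
      rw [← cancel_mono (U (σ k.down)).ι, Category.assoc, Category.assoc, ha', hp, Scheme.Hom.resLE_comp_ι_assoc,
        Scheme.Hom.resLE_comp_ι_assoc, hg]) ≫ Sigma.ι P k
  let gP : W₀ ⟶ ∐ P := 𝒰.glueMorphisms g₂ fun k l => by
    by_cases hkl : k = l
    · subst hkl
      rw [(cancel_mono (𝒰.f k)).1 pullback.condition]
    · haveI : IsEmpty ↥(pullback (𝒰.f k) (𝒰.f l)) := ⟨fun z => by
        have e := congrArg (fun f : pullback (𝒰.f k) (𝒰.f l) ⟶ W₀ => c.base (f.base z)) pullback.condition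
        refine Set.disjoint_left.1 (hd fun h => hkl (ULift.ext _ _ h))
          (show c.base ((pullback.fst (𝒰.f k) (𝒰.f l) ≫ 𝒰.f k).base z) ∈ D k.down from
            ((pullback.fst (𝒰.f k) (𝒰.f l)).base z).2) ?_
        exact Set.mem_of_eq_of_mem e ((pullback.snd (𝒰.f k) (𝒰.f l)).base z).2⟩
      exact isInitialOfIsEmpty.hom_ext _ _
  have hgP : ∀ k, (c ⁻¹ᵁ D k.down).ι ≫ gP = g₂ k := fun k => 𝒰.ι_glueMorphisms _ _ k
  obtain ⟨s, hs, hs'⟩ := hc.exists_section (Sigma.desc q) gP (𝒰.hom_ext _ _ fun k => by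
    change (c ⁻¹ᵁ D k.down).ι ≫ gP ≫ Sigma.desc q = (c ⁻¹ᵁ D k.down).ι ≫ c
    rw [← Category.assoc, hgP, Category.assoc, Sigma.ι_desc, pullback.lift_fst_assoc]
    exact Scheme.Hom.resLE_comp_ι _ _)
  let d : ∐ P ⟶ V := Sigma.desc fun k => pullback.snd (a' k.down) (p k.down) ≫ (O (σ k.down)).ι
  have hd' : d ≫ v = Sigma.desc q ≫ a := Limits.Sigma.hom_ext _ _ fun k => by
    rw [Sigma.ι_desc_assoc, Sigma.ι_desc_assoc]
    simp only [q, Category.assoc]
    rw [← hp, ← ha', pullback.condition_assoc]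
  refine ⟨s ≫ d, ⟨?_, ?_⟩, fun h' ⟨h1, h2⟩ => hc.hom_ext v ?_ ?_⟩
  · rw [Category.assoc, hd', ← Category.assoc, hs, Category.id_comp]
  · rw [← Category.assoc, hs']
    refine 𝒰.hom_ext _ _ fun k => ?_
    change (c ⁻¹ᵁ D k.down).ι ≫ gP ≫ d = (c ⁻¹ᵁ D k.down).ι ≫ g
    rw [← Category.assoc, hgP, Category.assoc, Sigma.ι_desc, pullback.lift_snd_assoc]
    exact Scheme.Hom.resLE_comp_ι _ _
  · rw [h1, Category.assoc, hd', ← Category.assoc, hs, Category.id_comp]
  · rw [h2, ← Category.assoc, hs']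
    refine Eq.symm (𝒰.hom_ext _ _ fun k => ?_)
    change (c ⁻¹ᵁ D k.down).ι ≫ gP ≫ d = (c ⁻¹ᵁ D k.down).ι ≫ g
    rw [← Category.assoc, hgP, Category.assoc, Sigma.ι_desc, pullback.lift_snd_assoc]
    exact Scheme.Hom.resLE_comp_ι _ _

end Groth.Agent.ProEtPush13
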