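import Groth.Agent.ProEtPush13.Lift
import Mathlib.AlgebraicGeometry.Restrict

/-!
# Objects over a closed subscheme extending to henselian pairs
-/

set_option autoImplicit false
set_option backward.isDefEq.respectTransparency false
set_option backward.isDefEq.respectTransparency.types false
set_option linter.style.haveILetI false

noncomputable section

universe u

open CategoryTheory CategoryTheory.Limits AlgebraicGeometry Opposite TensorProduct

namespace Groth.Agent.ProEtPush13

open Groth.Agent.ProEtLib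

variable {Z X : Scheme.{u}} (i : Z ⟶ X)

/-- an object of the base forming a henselian pair with its restriction -/
abbrev IsHens (W : X.ProEt) : Prop := IsHensPair (pullback.fst W.hom i)

/-- an object over the closed subscheme extending to a henselian pair -/
def IsGood (T : Z.ProEt) : Prop := ∃ W : X.ProEt, IsHens i W ∧ Nonempty ((ProEtS.bcP i).obj W ≅ T)

variable {i}

/-- morphisms out of henselian pairs are determined by restriction -/
theorem IsHens.map_bijective {W : X.ProEt} (hW : IsHens i W) (V : X.ProEt) :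
    Function.Bijective (fun h : W ⟶ V => (ProEtS.bcP i).map h) := by
  haveI : WeaklyEtale V.hom := V.prop
  have hfst : ∀ h : W ⟶ V, ((ProEtS.bcP i).map h).left ≫ pullback.fst V.hom i = pullback.fst W.hom i ≫ h.left :=
    fun h => pullback.lift_fst _ _ _
  refine ⟨fun h h' e => MorphismProperty.Over.Hom.ext (hW.hom_ext V.hom
    ((MorphismProperty.Over.w h).trans (MorphismProperty.Over.w h').symm) ?_), fun b => ?_⟩
  · rw [← hfst h, ← hfst h']
    exact congrArg (fun m : (ProEtS.bcP i).obj W ⟶ (ProEtS.bcP i).obj V => m.left ≫ pullback.fst V.hom i) e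
  · obtain ⟨h, ⟨h1, h2⟩, -⟩ := hW.existsUnique_hom V.hom W.hom (b.left ≫ pullback.fst V.hom i) (by
      rw [Category.assoc, pullback.condition, ← Category.assoc]
      exact (congrArg (· ≫ i) (MorphismProperty.Over.w b)).trans pullback.condition.symm)
    refine ⟨MorphismProperty.Over.homMk h h1, MorphismProperty.Over.Hom.ext ?_⟩
    refine pullback.hom_ext ((hfst _).trans h2) ?_
    exact (MorphismProperty.Over.w ((ProEtS.bcP i).map (MorphismProperty.Over.homMk h h1 : W ⟶ V))).trans
      (MorphismProperty.Over.w b).symm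

theorem IsGood.criterion {T : Z.ProEt} (hT : IsGood i T) : Criterion T := by
  obtain ⟨W, hW, ⟨e⟩⟩ := hT
  haveI := hW.affine₀
  haveI : IsAffine ((ProEtS.bcP i).obj W).left := hW.affine₀
  let e' : T.left ≅ ((ProEtS.bcP i).obj W).left :=
    (MorphismProperty.Over.forget _ _ _ ⋙ Over.forget _).mapIso e.symm
  haveI : IsAffine T.left := .of_isIso e'.hom
  refine criterion_of_wContractible ?_
  refine wContractible_of_ringEquiv ?_ hW.wc
  exact (RingHom.quotientKerEquivOfSurjective hW.surjective_appTop).trans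
    (asIso e'.hom.appTop).commRingCatIsoToRingEquiv

theorem isPushout_of_surjective {R R₀ A A₀ : CommRingCat.{u}} (k : R ⟶ R₀) (a : R ⟶ A) (t : R₀ ⟶ A₀) (π : A ⟶ A₀)
    (hw : k ≫ t = a ≫ π) (hk : Function.Surjective k) (hπ : Function.Surjective π)
    (hker : RingHom.ker π.hom = (RingHom.ker k.hom).map a.hom) : CategoryTheory.IsPushout k a t π := by
  refine ⟨⟨hw⟩, ⟨PushoutCocone.IsColimit.mk _ (fun s => CommRingCat.ofHom
    (RingHom.liftOfSurjective π.hom hπ ⟨s.inr.hom, ?_⟩)) (fun s => ?_) (fun s => ?_) fun s m _ h2 => ?_⟩⟩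
  · rw [hker, Ideal.map_le_iff_le_comap]
    intro r hr
    show s.inr (a r) = 0
    have e : s.inl (k r) = s.inr (a r) := ConcreteCategory.congr_hom s.condition r
    rw [← e, show k r = 0 from RingHom.mem_ker.1 hr]
    exact map_zero s.inl.hom
  · refine CommRingCat.hom_ext (RingHom.ext fun x => ?_)
    obtain ⟨r, rfl⟩ := hk x
    show RingHom.liftOfSurjective π.hom hπ _ (t (k r)) = s.inl (k r)
    rw [show t (k r) = π (a r) from ConcreteCategory.congr_hom hw r]
    exact (RingHom.liftOfRightInverse_comp_apply _ _ (Function.rightInverse_surjInv hπ) _ _).trans (ConcreteCategory.congr_hom s.condition r).symm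
  · refine CommRingCat.hom_ext (RingHom.ext fun x => ?_)
    exact RingHom.liftOfRightInverse_comp_apply _ _ (Function.rightInverse_surjInv hπ) _ _
  · refine CommRingCat.hom_ext (RingHom.ext fun x => ?_)
    obtain ⟨y, rfl⟩ := hπ x
    refine (ConcreteCategory.congr_hom h2 y).trans ?_
    symm
    exact RingHom.liftOfRightInverse_comp_apply _ _ (Function.rightInverse_surjInv hπ) _ _

variable [IsClosedImmersion i]

/-- weakly contractible affines over an affine open extend -/
theorem isGood_of_affine (O : X.Opens) (hO : IsAffineOpen O) (B : Z.ProEt) [IsAffine B.left]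
    (hB : EtPBC.IsWContractible Γ(B.left, ⊤)) (hrange : ∀ b : B.left, i.base (B.hom.base b) ∈ O) :
    IsGood i B := by
  haveI : IsAffine (O : Scheme.{u}) := hO
  haveI : IsClosedImmersion (i ∣_ O) := IsZariskiLocalAtTarget.restrict ‹IsClosedImmersion i› O
  haveI : IsAffine (i ⁻¹ᵁ O : Scheme.{u}) := isAffine_of_isAffineHom (i ∣_ O)
  let k := i ∣_ O
  haveI : IsClosedImmersion k := ‹IsClosedImmersion (i ∣_ O)›
  let Zo : Scheme.{u} := (i ⁻¹ᵁ O : Scheme.{u})
  let t : B.left ⟶ Zo := IsOpenImmersion.lift (i ⁻¹ᵁ O).ι B.hom (by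
    rintro _ ⟨b, rfl⟩
    rw [Scheme.Opens.range_ι]
    exact hrange b)
  have ht : t ≫ (i ⁻¹ᵁ O).ι = B.hom := IsOpenImmersion.lift_fac _ _ _
  haveI : WeaklyEtale t := by
    haveI : WeaklyEtale B.hom := B.prop
    haveI : WeaklyEtale (t ≫ (i ⁻¹ᵁ O).ι) := by rw [ht]; infer_instance
    exact MorphismProperty.of_postcomp (W := @WeaklyEtale) (W' := @WeaklyEtale) t (i ⁻¹ᵁ O).ι
      inferInstance inferInstance
  have hks : Function.Surjective k.appTop :=
    ((HasAffineProperty.iff_of_isAffine (P := @IsClosedImmersion) (f := k)).1 inferInstance).2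
  let R : Type u := Γ(O, ⊤)
  let I : Ideal R := RingHom.ker k.appTop.hom
  let e₀ : (R ⧸ I) ≃+* Γ(Zo, ⊤) := RingHom.quotientKerEquivOfSurjective hks
  let Bt : Type u := Γ(B.left, ⊤)
  letI : Algebra R Bt := (k.appTop ≫ t.appTop).hom.toAlgebra
  letI : Algebra (R ⧸ I) Bt := (t.appTop.hom.comp e₀.toRingHom).toAlgebra
  haveI : IsScalarTower R (R ⧸ I) Bt := IsScalarTower.of_algebraMap_eq fun _ => rfl
  haveI : Algebra.WeaklyEtale (R ⧸ I) Bt := by
    refine (weaklyEtale_spec_iff (CommRingCat.ofHom (t.appTop.hom.comp e₀.toRingHom))).1 ?_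
    have hsq : Spec.map t.appTop = B.left.isoSpec.inv ≫ t ≫ Zo.isoSpec.hom := by
      rw [← Scheme.isoSpec_hom_naturality t, Iso.inv_hom_id_assoc]
    haveI : WeaklyEtale (Spec.map t.appTop) := by rw [hsq]; infer_instance
    have he : Spec.map (CommRingCat.ofHom (t.appTop.hom.comp e₀.toRingHom)) =
        Spec.map t.appTop ≫ Spec.map e₀.toCommRingCatIso.hom := by
      rw [← Spec.map_comp]
      rfl
    rw [he]
    infer_instance
  obtain ⟨A, _, _, hwe, hH, ⟨e⟩⟩ := exists_henselian_lift I Bt hB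
  haveI := hwe
  let a : CommRingCat.of R ⟶ CommRingCat.of A := CommRingCat.ofHom (algebraMap R A)
  let π : CommRingCat.of A ⟶ CommRingCat.of Bt :=
    CommRingCat.ofHom ((e.toAlgHom.comp (Ideal.Quotient.mkₐ R _)).toRingHom)
  have hπs : Function.Surjective π := e.surjective.comp Ideal.Quotient.mk_surjective
  have hπk : RingHom.ker π.hom = I.map (algebraMap R A) := by
    ext x
    rw [RingHom.mem_ker]
    show e (Ideal.Quotient.mk _ x) = 0 ↔ _
    rw [map_eq_zero_iff e e.injective, Ideal.Quotient.eq_zero_iff_mem]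
  have hwπ : k.appTop ≫ t.appTop = a ≫ π :=
    CommRingCat.hom_ext (RingHom.ext fun r => ((e.toAlgHom.comp (Ideal.Quotient.mkₐ R _)).commutes r).symm)
  have hpo : CategoryTheory.IsPushout k.appTop a t.appTop π :=
    isPushout_of_surjective _ _ _ _ hwπ hks hπs hπk
  let w₀ : Spec (CommRingCat.of A) ⟶ (O : Scheme.{u}) := Spec.map a ≫ (O : Scheme.{u}).isoSpec.inv
  let c : B.left ⟶ Spec (CommRingCat.of A) := B.left.isoSpec.hom ≫ Spec.map π
  have hspec : CategoryTheory.IsPullback (Spec.map π) (Spec.map t.appTop) (Spec.map a) (Spec.map k.appTop) :=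
    (isPullback_SpecMap_of_isPushout _ _ _ _ hpo).flip
  have hsq₀ : CategoryTheory.IsPullback c t w₀ k := by
    refine hspec.of_iso B.left.isoSpec.symm (Iso.refl _) Zo.isoSpec.symm (O : Scheme.{u}).isoSpec.symm ?_ ?_ ?_ ?_
    · simp [c]
    · show Spec.map t.appTop ≫ Zo.isoSpec.inv = B.left.isoSpec.inv ≫ t
      rw [Iso.comp_inv_eq, Category.assoc, ← Scheme.isoSpec_hom_naturality t, Iso.inv_hom_id_assoc]
    · simp [w₀]
    · show Spec.map k.appTop ≫ (O : Scheme.{u}).isoSpec.inv = Zo.isoSpec.inv ≫ k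
      rw [Iso.comp_inv_eq, Category.assoc, ← Scheme.isoSpec_hom_naturality k, Iso.inv_hom_id_assoc]
  have hsq : CategoryTheory.IsPullback c B.hom (w₀ ≫ O.ι) i := by
    have h := hsq₀.paste_vert (isPullback_morphismRestrict i O)
    rwa [ht] at h
  haveI : WeaklyEtale (w₀ ≫ O.ι) := by
    haveI := weaklyEtale_spec R A
    infer_instance
  let W : X.ProEt := Scheme.ProEt.mk (w₀ ≫ O.ι)
  let p : B.left ≅ pullback W.hom i := hsq.isoPullback
  have hc : pullback.fst W.hom i = p.inv ≫ c := hsq.isoPullback_inv_fst.symm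
  refine ⟨W, ⟨inferInstanceAs (IsAffine (Spec (CommRingCat.of A))), MorphismProperty.pullback_fst W.hom i ‹_›, ?_, ?_⟩,
    ⟨MorphismProperty.Over.isoMk p.symm hsq.isoPullback_inv_snd⟩⟩
  all_goals
    have hap : ∀ x, (pullback.fst W.hom i).appTop x =
        p.inv.appTop (B.left.isoSpec.hom.appTop ((Spec.map π).appTop x)) := fun x => by
      rw [hc]
      simp only [c, Scheme.Hom.comp_appTop]
      rfl
    let eA : Γ(Spec (CommRingCat.of A), ⊤) ≃+* A := (Scheme.ΓSpecIso (CommRingCat.of A)).commRingCatIsoToRingEquiv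
    have hnat : ∀ x, (Scheme.ΓSpecIso (CommRingCat.of Bt)).hom ((Spec.map π).appTop x) = π (eA x) := fun x =>
      ConcreteCategory.congr_hom (Scheme.ΓSpecIso_naturality π) x
    have hb1 : Function.Bijective p.inv.appTop := ConcreteCategory.bijective_of_isIso _
    have hb2 : Function.Bijective B.left.isoSpec.hom.appTop := ConcreteCategory.bijective_of_isIso _
    have hker : RingHom.ker (pullback.fst W.hom i).appTop.hom = (I.map (algebraMap R A)).map eA.symm.toRingHom := by
      refine Eq.trans ?_ (Ideal.map_symm eA (I := I.map (algebraMap R A))).symm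
      ext x
      rw [RingHom.mem_ker, Ideal.mem_comap, ← hπk, RingHom.mem_ker]
      show (pullback.fst W.hom i).appTop x = 0 ↔ π (eA x) = 0
      rw [hap, map_eq_zero_iff _ hb1.1, map_eq_zero_iff _ hb2.1, ← hnat,
        map_eq_zero_iff _ (ConcreteCategory.bijective_of_isIso (Scheme.ΓSpecIso (CommRingCat.of Bt)).hom).1]
  · rw [hker]
    haveI := hH
    exact Hensel.henselianRing_of_ringEquiv eA.symm _
  · refine wContractible_of_ringEquiv ?_ hB
    rw [hker]
    exact e.symm.toRingEquiv.trans (Ideal.quotientEquiv _ _ eA.symm rfl)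

/-- good objects cover -/
theorem exists_good_cover (T : Z.ProEt) :
    ∃ (ι : Type u) (V : ι → Z.ProEt) (g : ∀ k, V k ⟶ T),
      Sieve.generate (Presieve.ofArrows V g) ∈ Scheme.ProEt.topology Z T ∧ ∀ k, IsGood i (V k) := by
  let κ := {p : T.left.Opens × X.Opens // IsAffineOpen p.1 ∧ IsAffineOpen p.2 ∧ p.1 ≤ (T.hom ≫ i) ⁻¹ᵁ p.2}
  choose ι V g hg hV using fun p : κ => exists_wc_cover_family (opObj T p.1.1)
  refine ⟨Σ p : κ, ι p, fun q => V q.1 q.2, fun q => g q.1 q.2 ≫ opHom T q.1.1.1, ?_, fun q => ?_⟩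
  · refine mem_topology_of_family _ _ _ (opens_mem_topology T (fun p : κ => p.1.1) fun x => ?_) fun p => ?_
    · obtain ⟨O, hO, hxO, -⟩ := exists_isAffineOpen_mem_and_subset (U := (⊤ : X.Opens))
        (x := (T.hom ≫ i).base x) trivial
      obtain ⟨P, hP, hxP, hPO⟩ := exists_isAffineOpen_mem_and_subset (U := (T.hom ≫ i) ⁻¹ᵁ O) (x := x) hxO
      exact ⟨⟨⟨P, O⟩, hP, hO, hPO⟩, hxP⟩
    · refine GrothendieckTopology.superset_covering _ ?_ (hg p)
      rintro Y f ⟨_, a, _, ⟨k⟩, rfl⟩
      exact ⟨_, a, _, Presieve.ofArrows.mk (f := fun q : Σ p : κ, ι p => g q.1 q.2 ≫ opHom T q.1.1.1) ⟨p, k⟩,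
        (Category.assoc _ _ _).symm⟩
  · haveI := (hV q.1 q.2).1
    refine isGood_of_affine q.1.1.2 q.1.2.2.1 (V q.1 q.2) (hV q.1 q.2).2 fun b => ?_
    have hm : ((g q.1 q.2).left ≫ q.1.1.1.ι).base b ∈ q.1.1.1 := ((g q.1 q.2).left.base b).2
    have e : (g q.1 q.2).left ≫ q.1.1.1.ι ≫ T.hom = (V q.1 q.2).hom := MorphismProperty.Over.w (g q.1 q.2)
    rw [← e]
    exact q.1.2.2.2 hm

end Groth.Agent.ProEtPush13
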