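import Groth.Agent.WStrictLib.WEtaleCover
import Groth.Agent.Hensel.Colim
import Groth.Agent.Hensel.LiftEtaleAlg
import Groth.Agent.IndEtLib.Sys
import Groth.Agent.WEtLib.Stalks

/-!
# Weakly étale algebras over henselian pairs with weakly contractible residue ring
-/

set_option autoImplicit false
set_option linter.style.haveILetI false

noncomputable section

universe u

open TensorProduct

namespace Groth.Agent.ProEtPush13

variable {R A : Type u} [CommRing R] [CommRing A] [Algebra R A] {I : Ideal A}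

/-- lifts of maps from weakly étale algebras are unique -/
theorem lift_unique (hI : I ≤ Ideal.jacobson ⊥) {B : Type u} [CommRing B] [Algebra R B]
    [Algebra.WeaklyEtale R B] (f g : B →ₐ[R] A)
    (h : ∀ b, Ideal.Quotient.mk I (f b) = Ideal.Quotient.mk I (g b)) : f = g := by
  let μ : B ⊗[R] B →ₐ[R] A := Algebra.TensorProduct.lift f g fun _ _ => .all _ _
  haveI := WEtLib.diag_pure (A := R) (B := B)
  have hμI : ∀ z, z ∈ WEtLib.diag R B → μ z ∈ I := by
    have key : ∀ z, Ideal.Quotient.mk I (μ z) = Ideal.Quotient.mk I (f (Algebra.TensorProduct.lmul' R z)) := by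
      intro z
      induction z using TensorProduct.induction_on with
      | zero => simp
      | tmul x y => simp [μ, h y]
      | add x y hx hy => simp [hx, hy]
    intro z hz
    rw [← Ideal.Quotient.eq_zero_iff_mem, key z, RingHom.mem_ker.1 hz, map_zero, map_zero]
  ext b
  have hb : b ⊗ₜ[R] (1 : B) - (1 : B) ⊗ₜ[R] b ∈ WEtLib.diag R B := by simp [RingHom.mem_ker]
  obtain ⟨y, hy, hzy⟩ := Ideal.exists_eq_mul_of_pure hb
  have h1 : μ (b ⊗ₜ[R] (1 : B) - (1 : B) ⊗ₜ[R] b) * (1 - μ y) = 0 := by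
    rw [mul_sub, mul_one, ← map_mul, ← hzy, sub_self]
  have hu : IsUnit (1 - μ y) := by
    have := Ideal.mem_jacobson_bot.1 (hI (hμI y hy)) (-1)
    rwa [mul_neg, mul_one, neg_add_eq_sub] at this
  have h2 := hu.mul_left_eq_zero.1 h1
  simp only [μ, map_sub, Algebra.TensorProduct.lift_tmul, map_one, mul_one, one_mul] at h2
  exact sub_eq_zero.1 h2

/-- maps from ind-étale algebras lift to henselian pairs -/
theorem exists_lift_indEtale [HenselianRing A I] {B : Type u} [CommRing B] [Algebra R B]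
    (hB : EtPBC.IsIndEtale R B) (σ : B →ₐ[R] A ⧸ I) :
    ∃ τ : B →ₐ[R] A, (Ideal.Quotient.mkₐ R I).comp τ = σ := by
  obtain ⟨S, hS, ⟨e⟩⟩ := IndEtLib.exists_sys hB
  choose t ht htu using fun j => haveI := hS j
    Hensel.existsUnique_etale_lift_of_algebra I (R := R) (σ.comp (e.toAlgHom.comp (S.ι j)))
  have htr : ∀ {i j} (f : i ⟶ j), (t j).comp (S.tr f) = t i := fun {i j} f => by
    refine htu i _ ?_
    exact (congrArg (fun m => AlgHom.comp m (S.tr f)) (ht j)).trans (by
      rw [AlgHom.comp_assoc, AlgHom.comp_assoc, S.ι_tr])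
  let c : CategoryTheory.Limits.Cocone S.D :=
    { pt := CategoryTheory.Under.mk (CommRingCat.ofHom (algebraMap R A))
      ι :=
        { app := fun j => CategoryTheory.Under.homMk (CommRingCat.ofHom (t j).toRingHom)
            (by ext a; exact (t j).commutes a)
          naturality := fun i j f => by
            apply CategoryTheory.Under.UnderMorphism.ext
            ext x
            exact congr($(htr f) x) } }
  let d : S.pt →ₐ[R] A :=
    { (S.hc.desc c).right.hom with
      commutes' := fun a => CategoryTheory.ConcreteCategory.congr_hom (CategoryTheory.Under.w (S.hc.desc c)) a }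
  have hd : ∀ j x, d (S.ι j x) = t j x := fun j x =>
    CategoryTheory.ConcreteCategory.congr_hom (congrArg (fun m => m.right) (S.hc.fac c j)) x
  refine ⟨d.comp e.symm.toAlgHom, AlgHom.ext fun b => ?_⟩
  obtain ⟨j, x, hx⟩ := S.surj (e.symm b)
  simp only [AlgHom.comp_apply, AlgEquiv.toAlgHom_apply]
  rw [← hx, hd j x]
  have := congr($(ht j) x)
  simp only [AlgHom.comp_apply, AlgEquiv.toAlgHom_apply] at this
  rw [this, hx, AlgEquiv.apply_symm_apply]

/-- maps from weakly étale algebras lift to henselian pairs with weakly contractible residue ring -/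
theorem exists_lift [HenselianRing A I] (hAI : EtPBC.IsWContractible (A ⧸ I)) {B : Type u} [CommRing B]
    [Algebra R B] [Algebra.WeaklyEtale R B] (σ : B →ₐ[R] A ⧸ I) :
    ∃ τ : B →ₐ[R] A, (Ideal.Quotient.mkₐ R I).comp τ = σ := by
  obtain ⟨B', _, _, _, _, hff, hBB', hRB'⟩ := WStrictLib.exists_indEtale_cover (A := R) (B := B)
  letI : Algebra B (A ⧸ I) := σ.toRingHom.toAlgebra
  haveI : IsScalarTower R B (A ⧸ I) := IsScalarTower.of_algebraMap_eq fun r => (σ.commutes r).symm
  haveI := hff
  haveI := S0736.result B B' hBB'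
  obtain ⟨r⟩ := hAI ((A ⧸ I) ⊗[B] B') inferInstance inferInstance
  let σ' : B' →ₐ[R] A ⧸ I := ((r.restrictScalars B).comp Algebra.TensorProduct.includeRight).restrictScalars R
  obtain ⟨τ, hτ⟩ := exists_lift_indEtale hRB' σ'
  refine ⟨τ.comp (IsScalarTower.toAlgHom R B B'), ?_⟩
  rw [← AlgHom.comp_assoc, hτ]
  ext b
  show r ((1 : A ⧸ I) ⊗ₜ[B] algebraMap B B' b) = σ b
  rw [Algebra.algebraMap_eq_smul_one, TensorProduct.tmul_smul, TensorProduct.smul_tmul']
  have : (σ b) ⊗ₜ[B] (1 : B') = algebraMap (A ⧸ I) ((A ⧸ I) ⊗[B] B') (σ b) := rfl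
  rw [show b • (1 : A ⧸ I) = σ b by rw [Algebra.smul_def, mul_one]; rfl, this, r.commutes]
  rfl

/-- weakly contractible weakly étale algebras over a quotient lift to henselian pairs -/
theorem exists_henselian_lift {R : Type u} [CommRing R] (I : Ideal R) (B : Type u) [CommRing B]
    [Algebra R B] [Algebra (R ⧸ I) B] [IsScalarTower R (R ⧸ I) B] [Algebra.WeaklyEtale (R ⧸ I) B]
    (hwc : EtPBC.IsWContractible B) :
    ∃ (A : Type u) (_ : CommRing A) (_ : Algebra R A),
      Algebra.WeaklyEtale R A ∧ HenselianRing A (I.map (algebraMap R A)) ∧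
        Nonempty ((A ⧸ I.map (algebraMap R A)) ≃ₐ[R] B) := by
  obtain ⟨B', _, _, _, _, hff, hBB', hTB'⟩ := WStrictLib.exists_indEtale_cover (A := R ⧸ I) (B := B)
  haveI := S0736.result B B' hBB'
  obtain ⟨r⟩ := hwc B' hff inferInstance
  obtain ⟨S, hS, ⟨e⟩⟩ := IndEtLib.exists_sys hTB'
  let C := Hensel.Henz R B
  let π : C →ₐ[R] B := Hensel.Henz.proj R B
  have hC : Algebra.WeaklyEtale R C := S0736.result R C (Hensel.isIndEtale_henz R B)
  have hsurj : Function.Surjective π := fun b => by
    obtain ⟨j, y, hy⟩ := S.surj (e.symm (algebraMap B B' b))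
    haveI := hS j
    letI : Algebra R (S.A j) := ((algebraMap (R ⧸ I) (S.A j)).comp (algebraMap R (R ⧸ I))).toAlgebra
    haveI : IsScalarTower R (R ⧸ I) (S.A j) := IsScalarTower.of_algebraMap_eq fun _ => rfl
    obtain ⟨E, _, _, _, ⟨eE⟩⟩ := Hensel.exists_etale_algebra_lift (A := R) (T := R ⧸ I) (C := S.A j)
      Ideal.Quotient.mk_surjective
    let q : E →ₐ[R] S.A j := (eE.toAlgHom.restrictScalars R).comp Algebra.TensorProduct.includeRight
    have hq : Function.Surjective q := by
      intro x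
      obtain ⟨z, rfl⟩ := eE.surjective x
      induction z using TensorProduct.induction_on with
      | zero => exact ⟨0, by simp⟩
      | tmul t x =>
        obtain ⟨a, rfl⟩ := Ideal.Quotient.mk_surjective t
        refine ⟨a • x, ?_⟩
        show eE ((1 : R ⧸ I) ⊗ₜ (a • x)) = eE (Ideal.Quotient.mk I a ⊗ₜ x)
        rw [TensorProduct.tmul_smul, TensorProduct.smul_tmul', Algebra.smul_def, mul_one]
        rfl
      | add a b ha hb =>
        obtain ⟨x, hx⟩ := ha
        obtain ⟨x', hx'⟩ := hb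
        exact ⟨x + x', by rw [map_add, map_add, hx, hx']⟩
    let p : S.A j →ₐ[R ⧸ I] B := (r.restrictScalars (R ⧸ I)).comp (e.toAlgHom.comp (S.ι j))
    obtain ⟨x, rfl⟩ := hq y
    refine ⟨Hensel.Henz.ofNbhd E ((p.restrictScalars R).comp q) x, ?_⟩
    rw [show π = Hensel.Henz.proj R B from rfl, Hensel.Henz.proj_ofNbhd]
    show r (e (S.ι j (q x))) = b
    rw [hy, AlgEquiv.apply_symm_apply, r.commutes]
    rfl
  let J := I.map (algebraMap R C)
  have hJ : J ≤ RingHom.ker π := Ideal.map_le_iff_le_comap.2 fun a ha => by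
    show π (algebraMap R C a) = 0
    rw [AlgHom.commutes, IsScalarTower.algebraMap_apply R (R ⧸ I) B, Ideal.Quotient.algebraMap_eq,
      Ideal.Quotient.eq_zero_iff_mem.2 ha, map_zero]
  let π' : (C ⧸ J) →ₐ[R] B := Ideal.Quotient.liftₐ J π hJ
  have hker : RingHom.ker π = J := by
    refine le_antisymm (fun z hz => ?_) hJ
    haveI : Algebra.WeaklyEtale R C := hC
    let πT : (C ⧸ J) →ₐ[R ⧸ I] B :=
      { π' with
        commutes' := fun a => by
          obtain ⟨a, rfl⟩ := Ideal.Quotient.mk_surjective a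
          exact (π'.commutes a).trans (IsScalarTower.algebraMap_apply R (R ⧸ I) B a) }
    haveI : Algebra.WeaklyEtale (R ⧸ I) (C ⧸ J) :=
      WEtLib.weaklyEtale_congr (Algebra.TensorProduct.quotIdealMapEquivQuotTensor C I).symm
    letI : Algebra (C ⧸ J) B := πT.toRingHom.toAlgebra
    haveI : IsScalarTower (R ⧸ I) (C ⧸ J) B := IsScalarTower.of_algebraMap_eq fun a => (πT.commutes a).symm
    haveI := WEtLib.cancel (A := R ⧸ I) (B := C ⧸ J) B
    haveI : Module.Flat (C ⧸ J) B := Algebra.WeaklyEtale.flat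
    have hs : Function.Surjective (Algebra.ofId (C ⧸ J) B) := fun b => by
      obtain ⟨c, rfl⟩ := hsurj b
      exact ⟨Ideal.Quotient.mk J c, rfl⟩
    haveI : (RingHom.ker (Algebra.ofId (C ⧸ J) B)).Pure :=
      Module.Flat.of_linearEquiv (Ideal.quotientKerAlgEquivOfSurjective hs).toLinearEquiv
    have hz' : Ideal.Quotient.mk J z ∈ RingHom.ker (Algebra.ofId (C ⧸ J) B) := RingHom.mem_ker.1 hz
    obtain ⟨y, hy, hzy⟩ := Ideal.exists_eq_mul_of_pure hz'
    obtain ⟨y, rfl⟩ := Ideal.Quotient.mk_surjective y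
    have hy' : π y = 0 := hy
    have hu : IsUnit (1 - y) := Hensel.Henz.isUnit_of_proj_eq_one (by
      rw [map_sub, map_one, show Hensel.Henz.proj R B y = 0 from hy', sub_zero])
    have h0 : z * (1 - y) ∈ J := by
      rw [← Ideal.Quotient.eq_zero_iff_mem, map_mul, map_sub, map_one, mul_sub, mul_one, ← hzy, sub_self]
    exact (Ideal.mul_unit_mem_iff_mem J hu).1 h0
  refine ⟨C, inferInstance, inferInstance, hC, ?_, ⟨?_⟩⟩
  · change HenselianRing C J
    rw [← hker]
    exact Hensel.Henz.henselianRing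
  · exact (Ideal.quotientEquivAlgOfEq R hker.symm).trans (Ideal.quotientKerAlgEquivOfSurjective hsurj)

end Groth.Agent.ProEtPush13
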