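import Groth.Agent.ProEtPush13.Pull

/-!
# Inverse images of sheaves of sets along closed immersions on pro-étale sites
-/

set_option autoImplicit false
set_option backward.isDefEq.respectTransparency false
set_option backward.isDefEq.respectTransparency.types false
set_option linter.style.haveILetI false

noncomputable section

universe u

open CategoryTheory CategoryTheory.Limits AlgebraicGeometry Opposite

namespace Groth.Agent.ProEtPush13.Sets

section Germs

variable {C D : Type (u + 1)} [Category.{u} C] [Category.{u} D] (G : C ⥤ D)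
  {J : GrothendieckTopology C} (K : GrothendieckTopology D) [G.IsContinuous J K]
  (F : Sheaf J (Type (u + 1)))



/-- the presheaf extension -/
noncomputable abbrev lanP : Dᵒᵖ ⥤ (Type (u + 1)) := G.op.lan.obj F.obj

/-- the unit into the sheafified extension -/
noncomputable def conUnit : F.obj ⟶ G.op ⋙ ((presheafToSheaf K (Type (u + 1))).obj (lanP G F)).obj :=
  G.op.lanUnit.app F.obj ≫ Functor.whiskerLeft G.op (toSheafify K (lanP G F))

/-- the pulled back sheaf, as constructed -/
noncomputable abbrev pulled : Dᵒᵖ ⥤ (Type (u + 1)) := ((presheafToSheaf K (Type (u + 1))).obj (lanP G F)).obj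

theorem unit_con :
    ((Functor.sheafPullbackConstruction.sheafAdjunctionContinuous G (Type (u + 1)) J K).unit.app F).hom
      = conUnit G K F := by
  simp [Functor.sheafPullbackConstruction.sheafAdjunctionContinuous, Adjunction.restrictFullyFaithful, conUnit]
  change ((G.op.lanAdjunction (Type (u + 1))).comp (sheafificationAdjunction K (Type (u + 1)))).homEquiv F.obj _ _ = _
  erw [Adjunction.homEquiv_unit, CategoryTheory.Functor.map_id, Category.comp_id, Adjunction.comp_unit_app]

variable [RepresentablyFlat G]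

instance filtered_costructuredArrow (d : D) : IsFiltered (CostructuredArrow G.op (op d)) :=
  IsFiltered.of_equivalence (structuredArrowOpEquivalence G d)

/-- germs of the sheafified extension -/
noncomputable def sGerm {d : D} {U : C} (b : d ⟶ G.obj U) (x : F.obj.obj (op U)) :
    (pulled G K F).obj (op d) :=
  (pulled G K F).map b.op ((conUnit G K F).app (op U) x)

theorem map_sGerm {d d' : D} (f : d' ⟶ d) {U : C} (b : d ⟶ G.obj U) (x : F.obj.obj (op U)) :
    (pulled G K F).map f.op (sGerm G K F b x) = sGerm G K F (f ≫ b) x := by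
  rw [sGerm, sGerm, ← ConcreteCategory.comp_apply, ← Functor.map_comp, ← op_comp]

theorem sGerm_map {d : D} {U U' : C} (c : U' ⟶ U) (b : d ⟶ G.obj U') (x : F.obj.obj (op U)) :
    sGerm G K F b (F.obj.map c.op x) = sGerm G K F (b ≫ G.map c) x := by
  rw [sGerm, sGerm, NatTrans.naturality_apply, op_comp, Functor.map_comp]
  rfl

theorem sGerm_eq_toSheafify {d : D} {U : C} (b : d ⟶ G.obj U) (x : F.obj.obj (op U)) :
    sGerm G K F b x = (toSheafify K (lanP G F)).app (op d)
      ((lanP G F).map b.op ((G.op.lanUnit.app F.obj).app (op U) x)) := by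
  rw [sGerm, NatTrans.naturality_apply]
  rfl

/-- every section is locally a germ -/
theorem exists_cover_sGerm {d : D} (t : (pulled G K F).obj (op d)) :
    ∃ R ∈ K d, ∀ ⦃d' : D⦄ (f : d' ⟶ d), R.arrows f → ∃ (U : C) (b : d' ⟶ G.obj U) (x : F.obj.obj (op U)),
      sGerm G K F b x = (pulled G K F).map f.op t := by
  refine ⟨_, Presheaf.imageSieve_mem K (toSheafify K (lanP G F)) (U := op d) t, fun d' f hf => ?_⟩
  obtain ⟨p, hp⟩ := hf
  obtain ⟨g, x, hx⟩ := Types.jointly_surjective _
    (G.op.isPointwiseLeftKanExtensionLeftKanExtensionUnit F.obj (op d')) p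
  refine ⟨g.left.unop, g.hom.unop, x, ?_⟩
  rw [sGerm_eq_toSheafify]
  exact (congrArg (fun q => (toSheafify K (lanP G F)).app (op d') q) hx).trans hp

/-- equal germs agree locally -/
theorem exists_cover_of_sGerm_eq {d : D} {U : C} (b : d ⟶ G.obj U) (x y : F.obj.obj (op U))
    (h : sGerm G K F b x = sGerm G K F b y) :
    ∃ R ∈ K d, ∀ ⦃d' : D⦄ (f : d' ⟶ d), R.arrows f → ∃ (U' : C) (b' : d' ⟶ G.obj U') (c : U' ⟶ U),
      b' ≫ G.map c = f ≫ b ∧ F.obj.map c.op x = F.obj.map c.op y := by
  rw [sGerm_eq_toSheafify, sGerm_eq_toSheafify] at h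
  refine ⟨_, Presheaf.equalizerSieve_mem K (toSheafify K (lanP G F)) _ _ h, fun d' f hf => ?_⟩
  let g : CostructuredArrow G.op (op d') := CostructuredArrow.mk (f ≫ b).op
  have e : ∀ z : F.obj.obj (op U), (lanP G F).map f.op
      ((lanP G F).map b.op ((G.op.lanUnit.app F.obj).app (op U) z)) =
      (lanP G F).map (f ≫ b).op ((G.op.lanUnit.app F.obj).app (op U) z) := fun z => by
    rw [op_comp, Functor.map_comp]; rfl
  have hf' := (e x).symm.trans ((show _ = _ from hf).trans (e y))
  obtain ⟨k, p, q, hpq⟩ := (Types.FilteredColimit.isColimit_eq_iff _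
    (G.op.isPointwiseLeftKanExtensionLeftKanExtensionUnit F.obj (op d'))
    (i := g) (j := g) (xi := x) (xj := y)).1 hf'
  refine ⟨(IsFiltered.coeq p q).left.unop, (IsFiltered.coeq p q).hom.unop,
    (p ≫ IsFiltered.coeqHom p q).left.unop, ?_, ?_⟩
  · exact congrArg Quiver.Hom.unop (CostructuredArrow.w (p ≫ IsFiltered.coeqHom p q))
  · have e1 : ∀ (r : g ⟶ k) (z : F.obj.obj (op U)),
        F.obj.map (IsFiltered.coeqHom p q).left (F.obj.map r.left z) =
          F.obj.map (r ≫ IsFiltered.coeqHom p q).left z := fun r z =>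
      (congrArg (fun e => e z) (F.obj.map_comp r.left (IsFiltered.coeqHom p q).left)).symm
    have h2 := (e1 p x).symm.trans
      ((congrArg (fun z => F.obj.map (IsFiltered.coeqHom p q).left z) hpq).trans (e1 q y))
    rw [← IsFiltered.coeq_condition] at h2
    exact h2

end Germs

open Groth.Agent.ProEtLib

variable {Z X : Scheme.{u}} {i : Z ⟶ X} [ProEtS.PCont i]

/-- sections over a henselian pair are sections of the inverse image over its restriction -/
theorem IsHens.conUnit_bijective {W : X.ProEt} (hW : IsHens i W) (F : Sheaf (Scheme.ProEt.topology X) (Type (u + 1))) :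
    Function.Bijective ((conUnit (ProEtS.bcP i) (Scheme.ProEt.topology Z) F).app (op W)) := by
  have : RepresentablyFlat (ProEtS.bcP i) := flat_of_preservesFiniteLimits _
  let G := ProEtS.bcP i
  let K := Scheme.ProEt.topology Z
  let d : Z.ProEt := G.obj W
  have hcr : Criterion d := IsGood.criterion ⟨W, hW, ⟨Iso.refl _⟩⟩
  have hF : Presieve.IsSheaf (Scheme.ProEt.topology X) (F.obj) :=
    (isSheaf_iff_isSheaf_of_type _ _).1 F.2
  have hF0 : ∀ T : X.ProEt, IsEmpty T.left → Subsingleton ((F.obj).obj (op T)) :=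
    fun T h => subsingleton_of_isEmpty F T
  have hunit : ∀ x : F.obj.obj (op W),
      (conUnit G K F).app (op W) x = sGerm G K F (𝟙 d) x := fun x => by
    rw [sGerm, op_id, CategoryTheory.Functor.map_id]
    rfl
  -- gluing the targets of maps from a clopen decomposition
  have glue : ∀ {n : ℕ} (D : Fin n → d.left.Opens),
      Pairwise (fun k l => Disjoint (D k : Set d.left) (D l)) → (∀ x, ∃ k, x ∈ D k) →
      ∀ (U : Fin n → X.ProEt) (b : ∀ k, opObj d (D k) ⟶ G.obj (U k)),
        ∃ (P : X.ProEt) (j : ∀ k, U k ⟶ P) (h : W ⟶ P), (∀ k, opHom d (D k) ≫ G.map h = b k ≫ G.map (j k)) ∧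
          (∀ t : ∀ k, F.obj.obj (op (U k)), ∃! s, ∀ k, F.obj.map (j k).op s = t k) ∧
          ∀ (V : X.ProEt) (g : ∀ k, U k ⟶ V), ∃ m : P ⟶ V, ∀ k, j k ≫ m = g k := by
    intro n D hd hc U b
    obtain ⟨hcol⟩ := isColimit_disjoint d D hd hc
    obtain ⟨P, j, hj, hdj, hcj⟩ := exists_sigma U
    obtain ⟨h, hh⟩ := (hW.map_bijective P).2 (Cofan.IsColimit.desc hcol fun k => b k ≫ G.map (j k))
    refine ⟨P, j, h, fun k => ?_, fun t => existsUnique_glue _ hF hF0 P U j hdj hcj t, fun V g => ?_⟩
    · exact (congrArg (opHom d (D k) ≫ ·) hh).trans (Cofan.IsColimit.fac hcol _ k)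
    · exact (existsUnique_glue (yoneda.obj V)
        (GrothendieckTopology.Subcanonical.isSheaf_of_isRepresentable _)
        (fun T hT => ⟨fun u v => MorphismProperty.Over.Hom.ext (isInitialOfIsEmpty.hom_ext _ _)⟩)
        P U j hdj hcj g).exists
  constructor
  · intro x y hxy
    rw [hunit, hunit] at hxy
    obtain ⟨R, hR, hloc⟩ := exists_cover_of_sGerm_eq G K F _ x y hxy
    obtain ⟨n, D, -, hd, hun, hD⟩ := hcr R hR
    have hc : ∀ z, ∃ k, z ∈ D k := fun z => Set.mem_iUnion.1 (hun.symm ▸ Set.mem_univ z)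
    choose U b c hbc hxy' using fun k => hloc _ (hD k)
    obtain ⟨P, j, h, hh, hglue, hdesc⟩ := glue D hd hc U b
    obtain ⟨m, hm⟩ := hdesc W c
    have hhm : h ≫ m = 𝟙 W := by
      obtain ⟨hcol⟩ := isColimit_disjoint d D hd hc
      refine (hW.map_bijective W).1 (Cofan.IsColimit.hom_ext hcol _ _ fun k => ?_)
      change opHom d (D k) ≫ G.map (h ≫ m) = opHom d (D k) ≫ G.map (𝟙 W)
      rw [G.map_comp, ← Category.assoc, hh k, Category.assoc, ← G.map_comp, hm k, hbc k, G.map_id,
        Category.comp_id]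
    have hmap : F.obj.map m.op x = F.obj.map m.op y :=
      (hglue fun k => F.obj.map (c k).op x).unique
        (fun k => by rw [← ConcreteCategory.comp_apply, ← Functor.map_comp, ← op_comp, hm k])
        (fun k => by rw [← ConcreteCategory.comp_apply, ← Functor.map_comp, ← op_comp, hm k, hxy' k])
    have e := congrArg (F.obj.map h.op) hmap
    simpa only [← ConcreteCategory.comp_apply, ← Functor.map_comp, ← op_comp, hhm, op_id,
      CategoryTheory.Functor.map_id, ConcreteCategory.id_apply] using e
  · intro t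
    obtain ⟨R, hR, hloc⟩ := exists_cover_sGerm G K F (d := d) t
    obtain ⟨n, D, -, hd, hun, hD⟩ := hcr R hR
    have hc : ∀ z, ∃ k, z ∈ D k := fun z => Set.mem_iUnion.1 (hun.symm ▸ Set.mem_univ z)
    choose U b x hx using fun k => hloc _ (hD k)
    obtain ⟨P, j, h, hh, hglue, -⟩ := glue D hd hc U b
    obtain ⟨s, hs, -⟩ := hglue x
    refine ⟨F.obj.map h.op s, ?_⟩
    rw [hunit, sGerm_map, Category.id_comp]
    haveI : ∀ k, IsOpenImmersion (opHom d (D k)).left := fun k => inferInstanceAs (IsOpenImmersion (D k).ι)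
    refine ((existsUnique_glue (pulled G K F) ((isSheaf_iff_isSheaf_of_type _ _).1
      ((presheafToSheaf K (Type (u + 1))).obj (lanP G F)).2)
      (fun T hT => subsingleton_of_isEmpty ((presheafToSheaf K (Type (u + 1))).obj (lanP G F)) T)
      d (fun k => opObj d (D k)) (fun k => opHom d (D k)) (fun k l hkl => ?_) (fun z => ?_)
      (fun k => (pulled G K F).map (opHom d (D k)).op t)).unique (fun k => ?_) fun k => rfl)
    · change Disjoint (Set.range (D k).ι.base) (Set.range (D l).ι.base)
      rw [Scheme.Opens.range_ι, Scheme.Opens.range_ι]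
      exact hd hkl
    · obtain ⟨k, hk⟩ := hc z
      exact ⟨k, ⟨z, hk⟩, rfl⟩
    · change (pulled G K F).map (opHom d (D k)).op (sGerm G K F (G.map h) s) = _
      rw [map_sGerm, hh k, ← sGerm_map, hs k, hx k]

variable (i) in
/-- henselian pairs as a category -/
abbrev hensProp : ObjectProperty X.ProEt := fun W => IsHens i W

variable (i) in
/-- restriction of henselian pairs to the closed subscheme -/
abbrev hensRestr : (hensProp i).FullSubcategory ⥤ Z.ProEt := (hensProp i).ι ⋙ ProEtS.bcP i

omit [ProEtS.PCont i] in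
instance hensRestr_full : (hensRestr i).Full where
  map_surjective {W V} b := by
    obtain ⟨h, hh⟩ := (W.2.map_bijective V.1).2 b
    exact ⟨ObjectProperty.homMk h, hh⟩

omit [ProEtS.PCont i] in
theorem hensRestr_isCoverDense [IsClosedImmersion i] :
    (hensRestr i).IsCoverDense (Scheme.ProEt.topology Z) := ⟨fun T => by
  obtain ⟨ι, V, g, hg, hV⟩ := exists_good_cover (i := i) T
  refine GrothendieckTopology.superset_covering _ ?_ hg
  refine (Sieve.generate_le_iff _ _).2 ?_
  rintro _ _ ⟨k⟩
  obtain ⟨W, hW, ⟨e⟩⟩ := hV k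
  exact ⟨⟨⟨W, hW⟩, e.inv, e.hom ≫ g k, e.inv_hom_id_assoc _⟩⟩⟩

/-- the unit on sheaves of sets at henselian pairs is bijective -/
theorem IsHens.setUnit_bijective {W : X.ProEt} (hW : IsHens i W)
    (F : Sheaf (Scheme.ProEt.topology X) (Type (u + 1))) :
    Function.Bijective ((((ProEtS.bcP i).sheafAdjunctionContinuous (Type (u + 1)) (Scheme.ProEt.topology X)
      (Scheme.ProEt.topology Z)).unit.app F).hom.app (op W)) := by
  let adj' := (ProEtS.bcP i).sheafAdjunctionContinuous (Type (u + 1)) (Scheme.ProEt.topology X)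
      (Scheme.ProEt.topology Z)
  let ad := Functor.sheafPullbackConstruction.sheafAdjunctionContinuous (ProEtS.bcP i) (Type (u + 1))
    (Scheme.ProEt.topology X) (Scheme.ProEt.topology Z)
  let θ : ad.unit.app F ≫ _ = _ := Adjunction.unit_leftAdjointUniq_hom_app ad adj' F
  rw [← θ]
  refine Function.Bijective.comp (g := ((((ProEtS.bcP i).sheafPushforwardContinuous (Type (u + 1))
    (Scheme.ProEt.topology X) (Scheme.ProEt.topology Z)).map ((Adjunction.leftAdjointUniq ad
    adj').hom.app F)).hom.app (op W))) ?_ ?_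
  · exact ConcreteCategory.bijective_of_isIso ((((sheafToPresheaf _ _).mapIso (((ProEtS.bcP i).sheafPushforwardContinuous (Type (u + 1))
      (Scheme.ProEt.topology X) (Scheme.ProEt.topology Z)).mapIso
      ((Adjunction.leftAdjointUniq ad adj').app F))).app (op W)).hom)
  · change Function.Bijective ((ad.unit.app F).hom.app (op W))
    rw [unit_con]
    exact Sets.IsHens.conUnit_bijective hW F

/-- the inverse image of sheaves of sets has a left adjoint -/
theorem sheafPullback_isRightAdjoint [IsClosedImmersion i] :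
    ((ProEtS.bcP i).sheafPullback (Type (u + 1)) (Scheme.ProEt.topology X)
      (Scheme.ProEt.topology Z)).IsRightAdjoint := by
  haveI := hensRestr_isCoverDense (i := i)
  let KX := Scheme.ProEt.topology X
  let KZ := Scheme.ProEt.topology Z
  let P := (ProEtS.bcP i).sheafPullback (Type (u + 1)) KX KZ
  let adj := (ProEtS.bcP i).sheafAdjunctionContinuous (Type (u + 1)) KX KZ
  let RZ : Sheaf KZ (Type (u + 1)) ⥤ ((hensProp i).FullSubcategoryᵒᵖ ⥤ Type (u + 1)) :=
    sheafToPresheaf KZ _ ⋙ (Functor.whiskeringLeft _ _ _).obj (hensRestr i).op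
  let RX : Sheaf KX (Type (u + 1)) ⥤ ((hensProp i).FullSubcategoryᵒᵖ ⥤ Type (u + 1)) :=
    sheafToPresheaf KX _ ⋙ (Functor.whiskeringLeft _ _ _).obj (hensProp i).ι.op
  have hb : ∀ F G, Function.Bijective (RZ.map : (F ⟶ G) → _) := fun F G =>
    (Functor.whiskerLeft_obj_map_bijective_of_isCoverDense (K := KZ) (hensRestr i) F.obj G.obj G.2).comp
      (fullyFaithfulSheafToPresheaf KZ _).homEquiv.bijective
  have hRZ : RZ.FullyFaithful :=
    { preimage := fun f => ((Equiv.ofBijective _ (hb _ _)).symm f)
      map_preimage := fun f => (Equiv.ofBijective _ (hb _ _)).apply_symm_apply f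
      preimage_map := fun f => (Equiv.ofBijective _ (hb _ _)).symm_apply_apply f }
  let α : RX ⟶ P ⋙ RZ :=
    { app := fun F =>
        { app := fun W => (adj.unit.app F).hom.app (op W.unop.1)
          naturality := fun W V h => (adj.unit.app F).hom.naturality h.unop.hom.op }
      naturality := fun F F' f => NatTrans.ext (funext fun W =>
        congrArg (fun m => m.hom.app (op W.unop.1)) (adj.unit.naturality f)) }
  haveI : ∀ F, IsIso (α.app F) := fun F => by
    haveI : ∀ W, IsIso ((α.app F).app W) := fun W =>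
      (ConcreteCategory.isIso_iff_bijective _).2 (IsHens.setUnit_bijective W.unop.2 F)
    exact NatIso.isIso_of_isIso_app _
  haveI : IsIso α := NatIso.isIso_of_isIso_app α
  let aX := ((hensProp i).ι.op.lanAdjunction (Type (u + 1))).comp (sheafificationAdjunction KX (Type (u + 1)))
  exact (Adjunction.restrictFullyFaithful (iC := RZ) (iD := 𝟭 _) (aX.ofNatIsoRight (asIso α)) hRZ
    (Functor.FullyFaithful.id _) (L := RZ ⋙ (hensProp i).ι.op.lan ⋙ presheafToSheaf KX _) (R := P)
    (Iso.refl _) (Iso.refl _)).isRightAdjoint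

end Groth.Agent.ProEtPush13.Sets
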