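import Groth.Agent.ProEtPush13.UHRing
import Groth.Agent.ProEtPush13.Lift

/-!
# Weakly étale morphisms along universal homeomorphisms with weakly contractible source
-/

set_option autoImplicit false
set_option backward.isDefEq.respectTransparency false
set_option backward.isDefEq.respectTransparency.types false
set_option linter.style.haveILetI false

noncomputable section

universe u

open CategoryTheory CategoryTheory.Limits AlgebraicGeometry Opposite TensorProduct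

namespace Groth.Agent.ProEtPush13

open Groth.Agent.ProEtLib

/-- a universal homeomorphism of affine schemes with weakly contractible source -/
structure IsUHPair {W₀ W : Scheme.{u}} (c : W₀ ⟶ W) : Prop where
  affine : IsAffine W
  integral : IsIntegralHom c
  inj : UniversallyInjective c
  surj : AlgebraicGeometry.Surjective c
  wc : EtPBC.IsWContractible Γ(W₀, ⊤)

variable {W₀ W : Scheme.{u}} {c : W₀ ⟶ W}

theorem IsUHPair.affine₀ (hc : IsUHPair c) : IsAffine W₀ := by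
  haveI := hc.affine
  haveI := hc.integral
  exact isAffine_of_isAffineHom c

theorem IsUHPair.homeo (hc : IsUHPair c) : IsHomeomorph c.base := by
  haveI := hc.integral
  haveI := hc.inj
  haveI := hc.surj
  exact isHomeomorph_iff_continuous_isClosedMap_bijective.2 ⟨c.continuous, c.isClosedMap, c.injective, c.surjective⟩

theorem IsUHPair.isInducing (hc : IsUHPair c) : Topology.IsInducing c.base :=
  hc.homeo.isEmbedding.isInducing

theorem IsUHPair.exists_closed_le (hc : IsUHPair c) (w : W) : ∃ w₀ : W₀, w ⤳ c.base w₀ := by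
  obtain ⟨w₀, rfl⟩ := hc.homeo.surjective w
  exact ⟨w₀, specializes_rfl⟩

/-- disjoint clopen refinements of open covers -/
theorem IsUHPair.exists_clopens (hc : IsUHPair c) {ι : Type u} (Q : ι → W.Opens) (hQ : ∀ w, ∃ i, w ∈ Q i) :
    ∃ (n : ℕ) (D : Fin n → W.Opens) (σ : Fin n → ι), (∀ k, IsClopen (D k : Set W)) ∧
      Pairwise (fun k l => Disjoint (D k : Set W) (D l)) ∧ (∀ w, ∃ k, w ∈ D k) ∧ ∀ k, D k ≤ Q (σ k) := by
  haveI := hc.affine₀
  let U : W₀.ProEt := ProEtS.topP W₀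
  haveI : IsAffine U.left := hc.affine₀
  obtain ⟨n, D, hcl, hd, hun, hR⟩ := criterion_of_wContractible (U := U) hc.wc _
    (opens_mem_topology U (fun i => c ⁻¹ᵁ Q i) fun w => hQ (c.base w))
  have key : ∀ k, ∃ i, D k ≤ c ⁻¹ᵁ Q i := fun k => by
    obtain ⟨Y, h, _, ⟨i⟩, he⟩ := hR k
    refine ⟨i, fun w hw => ?_⟩
    have e := congrArg (fun f : (opObj U (D k)).left ⟶ U.left => f.base ⟨w, hw⟩) (congrArg (fun f => f.left) he)
    have hm : (h.left ≫ (c ⁻¹ᵁ Q i).ι).base ⟨w, hw⟩ ∈ c ⁻¹ᵁ Q i := (h.left.base ⟨w, hw⟩).2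
    exact Set.mem_of_eq_of_mem e.symm hm
  choose σ hσ using key
  let e := hc.homeo.homeomorph c.base
  refine ⟨n, fun k => ⟨e '' (D k).1, e.isOpenMap _ (D k).isOpen⟩, σ,
    fun k => ⟨e.isClosedMap _ (hcl k).1, e.isOpenMap _ (D k).isOpen⟩,
    fun k l hkl => (Set.disjoint_image_iff e.injective).2 (hd hkl), fun w => ?_, fun k => ?_⟩
  · obtain ⟨k, hk⟩ := Set.mem_iUnion.1 (hun.symm ▸ Set.mem_univ (e.symm w))
    exact ⟨k, e.symm w, hk, e.apply_symm_apply w⟩
  · rintro _ ⟨w, hw, rfl⟩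
    exact hσ k hw

theorem IsUHPair.isAffine_clopen (hc : IsUHPair c) {D : W.Opens} (hD : IsClopen (D : Set W)) :
    IsAffine (D : Scheme.{u}) := by
  haveI := hc.affine
  haveI : IsClosedImmersion D.ι := .of_isPreimmersion _ (by rw [Scheme.Opens.range_ι]; exact hD.1)
  exact isAffine_of_isAffineHom D.ι

/-- sections extend -/
theorem IsUHPair.exists_section (hc : IsUHPair c) {P : Scheme.{u}} [IsAffine P] (q : P ⟶ W) [WeaklyEtale q]
    (g : W₀ ⟶ P) (hg : g ≫ q = c) : ∃ s : W ⟶ P, s ≫ q = 𝟙 W ∧ c ≫ s = g := by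
  haveI := hc.affine
  haveI := hc.affine₀
  haveI := hc.integral
  haveI := hc.inj
  haveI := hc.surj
  letI := q.appTop.hom.toAlgebra
  letI := c.appTop.hom.toAlgebra
  have hsq : Spec.map q.appTop = P.isoSpec.inv ≫ q ≫ W.isoSpec.hom := by
    rw [← Scheme.isoSpec_hom_naturality q, Iso.inv_hom_id_assoc]
  have hw : WeaklyEtale (Spec.map q.appTop) := by rw [hsq]; infer_instance
  haveI : Algebra.WeaklyEtale Γ(W, ⊤) Γ(P, ⊤) := (weaklyEtale_spec_iff _).1 hw
  have hsc : Arrow.mk (Spec.map c.appTop) ≅ Arrow.mk c :=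
    Arrow.isoMk W₀.isoSpec.symm W.isoSpec.symm (Scheme.isoSpec_inv_naturality c).symm
  have hUH : IsUHRing Γ(W, ⊤) Γ(W₀, ⊤) := by
    exact ⟨((MorphismProperty.arrow_mk_iso_iff @IsIntegralHom hsc).2 ‹_›),
      ((MorphismProperty.arrow_mk_iso_iff @UniversallyInjective hsc).2 ‹_›),
      ((MorphismProperty.arrow_mk_iso_iff @AlgebraicGeometry.Surjective hsc).2 ‹_›)⟩
  let σ : Γ(P, ⊤) →ₐ[Γ(W, ⊤)] Γ(W₀, ⊤) :=
    { g.appTop.hom with
      commutes' := fun a => by
        show g.appTop (q.appTop a) = c.appTop a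
        rw [← hg, Scheme.Hom.comp_appTop]
        rfl }
  obtain ⟨τ, hτ⟩ := hUH.exists_lift hc.wc σ
  obtain ⟨s, hs⟩ := exists_hom_appTop (W := W) (P := P) (CommRingCat.ofHom τ.toRingHom)
  refine ⟨s, ext_of_isAffine ?_, ext_of_isAffine ?_⟩
  · rw [Scheme.Hom.comp_appTop, hs]
    ext a
    exact τ.commutes a
  · rw [Scheme.Hom.comp_appTop, hs]
    ext b
    exact congr($hτ b)

omit c in
/-- morphisms into separated schemes with flat diagonal are determined on a surjection -/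
theorem hom_ext_of_surjective_sep {X V : Scheme.{u}} (c : W₀ ⟶ W) [AlgebraicGeometry.Surjective c]
    (v : V ⟶ X) [WeaklyEtale v] [IsSeparated v]
    {h h' : W ⟶ V} (hv : h ≫ v = h' ≫ v) (he : c ≫ h = c ≫ h') : h = h' := by
  let t : W ⟶ pullback v v := pullback.lift h h' hv
  let Δ := pullback.diagonal v
  haveI : Flat Δ := WeaklyEtale.flat_diagonal (f := v)
  haveI : IsClosedImmersion Δ := IsSeparated.isClosedImmersion_diagonal (f := v)
  let π := pullback.snd Δ t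
  haveI : Flat π := MorphismProperty.pullback_snd Δ t ‹_›
  haveI : IsClosedImmersion π := MorphismProperty.pullback_snd Δ t ‹_›
  have e0 : pullback.fst Δ t = π ≫ h := by
    have := congrArg (· ≫ pullback.fst v v) (pullback.condition (f := Δ) (g := t))
    simpa [Δ, t, π] using this
  have e1 : pullback.fst Δ t = π ≫ h' := by
    have := congrArg (· ≫ pullback.snd v v) (pullback.condition (f := Δ) (g := t))
    simpa [Δ, t, π] using this
  haveI : AlgebraicGeometry.Surjective π := ⟨fun w => by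
    obtain ⟨w₀, rfl⟩ := c.surjective w
    let l : W₀ ⟶ pullback Δ t := pullback.lift (c ≫ h) c (pullback.hom_ext (by simp [Δ, t])
      (by simp [Δ, t, he]))
    exact ⟨l.base w₀, (Scheme.Hom.comp_apply l π w₀).symm.trans
      (congrArg (fun m : W₀ ⟶ W => m.base w₀) (pullback.lift_snd _ _ _))⟩⟩
  haveI := Flat.isIso_of_surjective_of_mono π
  exact (cancel_epi π).1 (e0.symm.trans e1)

/-- morphisms into weakly étale objects are determined on a surjection -/
theorem IsUHPair.hom_ext (hc : IsUHPair c) {X V : Scheme.{u}} (v : V ⟶ X) [WeaklyEtale v]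
    {h h' : W ⟶ V} (hv : h ≫ v = h' ≫ v) (he : c ≫ h = c ≫ h') : h = h' := by
  haveI := hc.surj
  have hpt : ∀ w, h.base w = h'.base w := fun w => by
    obtain ⟨w₀, rfl⟩ := c.surjective w
    exact (Scheme.Hom.comp_apply c h w₀).symm.trans
      ((congrArg (fun m : W₀ ⟶ V => m.base w₀) he).trans (Scheme.Hom.comp_apply c h' w₀))
  have key : ∀ w : W, ∃ (U : X.Opens) (O : V.Opens), IsAffineOpen U ∧ IsAffineOpen O ∧ O ≤ v ⁻¹ᵁ U ∧
      h.base w ∈ O := fun w => by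
    obtain ⟨U, hU, hxU, -⟩ := exists_isAffineOpen_mem_and_subset (U := (⊤ : X.Opens))
      (x := v.base (h.base w)) trivial
    obtain ⟨O, hO, hxO, hOU⟩ := exists_isAffineOpen_mem_and_subset (U := v ⁻¹ᵁ U) (x := h.base w) hxU
    exact ⟨U, O, hU, hO, hOU, hxO⟩
  choose U O hU hO hOU hmem using key
  refine (W.openCoverOfIsOpenCover (fun w => h ⁻¹ᵁ O w) (TopologicalSpace.IsOpenCover.mk (eq_top_iff.2
    fun w _ => TopologicalSpace.Opens.mem_iSup.2 ⟨w, hmem w⟩))).hom_ext _ _ fun (k : W) => ?_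
  change (h ⁻¹ᵁ O k).ι ≫ h = (h ⁻¹ᵁ O k).ι ≫ h'
  let Q := h ⁻¹ᵁ O k
  haveI : IsAffine (U k : Scheme.{u}) := hU k
  haveI : IsAffine (O k : Scheme.{u}) := hO k
  have hle : Q ≤ h' ⁻¹ᵁ O k := fun y hy => by
    show h'.base y ∈ O k
    rw [← hpt]
    exact hy
  let p : (O k : Scheme.{u}) ⟶ (U k : Scheme.{u}) := v.resLE (U k) (O k) (hOU k)
  have hp : p ≫ (U k).ι = (O k).ι ≫ v := Scheme.Hom.resLE_comp_ι _ _
  haveI : WeaklyEtale (p ≫ (U k).ι) := hp ▸ inferInstance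
  haveI : WeaklyEtale p := MorphismProperty.of_postcomp (W := @WeaklyEtale) (W' := @WeaklyEtale) p (U k).ι
    inferInstance inferInstance
  let f : (Q : Scheme.{u}) ⟶ O k := h.resLE (O k) Q le_rfl
  let f' : (Q : Scheme.{u}) ⟶ O k := h'.resLE (O k) Q hle
  haveI : AlgebraicGeometry.Surjective (c ∣_ Q) := IsZariskiLocalAtTarget.restrict ‹_› Q
  have e : f = f' := by
    refine hom_ext_of_surjective_sep (c ∣_ Q) p ?_ ?_
    · rw [← cancel_mono (U k).ι]
      simp only [f, f', Category.assoc, hp, Scheme.Hom.resLE_comp_ι_assoc, hv]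
    · rw [← cancel_mono (O k).ι]
      simp only [f, f', Category.assoc, Scheme.Hom.resLE_comp_ι, morphismRestrict_ι_assoc, he]
  simpa [f, f'] using congrArg (· ≫ (O k).ι) e

/-- morphisms along universal homeomorphisms extend uniquely -/
theorem IsUHPair.existsUnique_hom (hc : IsUHPair c) {X V : Scheme.{u}} (v : V ⟶ X) [WeaklyEtale v]
    (a : W ⟶ X) (g : W₀ ⟶ V) (hg : g ≫ v = c ≫ a) : ∃! h : W ⟶ V, h ≫ v = a ∧ c ≫ h = g := by
  haveI := hc.affine
  haveI := hc.affine₀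
  have key : ∀ w₀ : W₀, ∃ (U : X.Opens) (O : V.Opens) (Q : W.Opens), IsAffineOpen U ∧ IsAffineOpen O ∧
      O ≤ v ⁻¹ᵁ U ∧ Q ≤ a ⁻¹ᵁ U ∧ c.base w₀ ∈ Q ∧ c ⁻¹ᵁ Q ≤ g ⁻¹ᵁ O := fun w₀ => by
    obtain ⟨U, hU, hxU, -⟩ := exists_isAffineOpen_mem_and_subset (U := (⊤ : X.Opens))
      (x := v.base (g.base w₀)) trivial
    obtain ⟨O, hO, hxO, hOU⟩ := exists_isAffineOpen_mem_and_subset (U := v ⁻¹ᵁ U) (x := g.base w₀) hxU
    obtain ⟨Q, hQ, hQe⟩ := hc.isInducing.isOpen_iff.1 (g ⁻¹ᵁ O).isOpen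
    have hxQ : c.base w₀ ∈ Q := by
      have : w₀ ∈ c.base ⁻¹' Q := hQe.ge hxO
      exact this
    have hxa : a.base (c.base w₀) ∈ U := by
      rw [← Scheme.Hom.comp_apply, ← hg, Scheme.Hom.comp_apply]
      exact hxU
    exact ⟨U, O, ⟨Q, hQ⟩ ⊓ a ⁻¹ᵁ U, hU, hO, hOU, inf_le_right, ⟨hxQ, hxa⟩, fun y hy => hQe.le hy.1⟩
  choose U O Q hU hO hOU hQU hmem hQO using key
  obtain ⟨n, D, σ, hcl, hd, hcov, hle⟩ := hc.exists_clopens Q fun w => by
    obtain ⟨w₀, hw₀⟩ := hc.exists_closed_le w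
    exact ⟨w₀, hw₀.mem_open (Q w₀).isOpen (hmem w₀)⟩
  haveI : ∀ k, IsAffine (D k : Scheme.{u}) := fun k => hc.isAffine_clopen (hcl k)
  let a' : ∀ k, (D k : Scheme.{u}) ⟶ (U (σ k) : Scheme.{u}) := fun k =>
    a.resLE _ _ ((hle k).trans (hQU (σ k)))
  have ha' : ∀ k, a' k ≫ (U (σ k)).ι = (D k).ι ≫ a := fun k => Scheme.Hom.resLE_comp_ι _ _
  let p : ∀ k, (O (σ k) : Scheme.{u}) ⟶ (U (σ k) : Scheme.{u}) := fun k => v.resLE _ _ (hOU (σ k))
  have hp : ∀ k, p k ≫ (U (σ k)).ι = (O (σ k)).ι ≫ v := fun k => Scheme.Hom.resLE_comp_ι _ _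
  have hpw : ∀ k, WeaklyEtale (p k) := fun k => by
    haveI : WeaklyEtale (p k ≫ (U (σ k)).ι) := hp k ▸ inferInstance
    exact MorphismProperty.of_postcomp (W := @WeaklyEtale) (W' := @WeaklyEtale) (p k) (U (σ k)).ι
      inferInstance inferInstance
  let P : ULift.{u} (Fin n) → Scheme.{u} := fun k => pullback (a' k.down) (p k.down)
  haveI : ∀ k, IsAffine (P k) := fun k => by
    haveI : IsAffine (O (σ k.down) : Scheme.{u}) := hO (σ k.down)
    haveI : IsAffine (U (σ k.down) : Scheme.{u}) := hU (σ k.down)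
    infer_instance
  let q : ∀ k, P k ⟶ W := fun k => pullback.fst (a' k.down) (p k.down) ≫ (D k.down).ι
  haveI : ∀ k, WeaklyEtale (q k) := fun k => by
    haveI : WeaklyEtale (pullback.fst (a' k.down) (p k.down)) :=
      MorphismProperty.pullback_fst (P := @WeaklyEtale) (a' k.down) (p k.down) (hpw k.down)
    infer_instance
  haveI : WeaklyEtale (Sigma.desc q) := IsZariskiLocalAtSource.sigmaDesc inferInstance
  let 𝒰 := W₀.openCoverOfIsOpenCover (fun k : ULift.{u} (Fin n) => c ⁻¹ᵁ D k.down)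
    (TopologicalSpace.IsOpenCover.mk (eq_top_iff.2 fun x _ => TopologicalSpace.Opens.mem_iSup.2
      ⟨⟨(hcov (c.base x)).choose⟩, (hcov (c.base x)).choose_spec⟩))
  let g₁ : ∀ k : ULift.{u} (Fin n), (c ⁻¹ᵁ D k.down : Scheme.{u}) ⟶ (O (σ k.down) : Scheme.{u}) := fun k =>
    g.resLE _ _ (le_trans ((TopologicalSpace.Opens.map c.base).map (homOfLE (hle k.down))).le (hQO (σ k.down)))
  let c₁ : ∀ k : ULift.{u} (Fin n), (c ⁻¹ᵁ D k.down : Scheme.{u}) ⟶ (D k.down : Scheme.{u}) := fun k =>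
    c.resLE _ _ le_rfl
  let g₂ : ∀ k : ULift.{u} (Fin n), (c ⁻¹ᵁ D k.down : Scheme.{u}) ⟶ ∐ P := fun k =>
    pullback.lift (c₁ k) (g₁ k) (by
      rw [← cancel_mono (U (σ k.down)).ι, Category.assoc, Category.assoc, ha', hp, Scheme.Hom.resLE_comp_ι_assoc,
        Scheme.Hom.resLE_comp_ι_assoc, hg]) ≫ Sigma.ι P k
  let gP : W₀ ⟶ ∐ P := 𝒰.glueMorphisms g₂ fun k l => by
    by_cases hkl : k = l
    · subst hkl
      rw [(cancel_mono (𝒰.f k)).1 pullback.condition]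
    · haveI : IsEmpty ↥(pullback (𝒰.f k) (𝒰.f l)) := ⟨fun z => by
        have e := congrArg (fun f : pullback (𝒰.f k) (𝒰.f l) ⟶ W₀ => c.base (f.base z)) pullback.condition
        refine Set.disjoint_left.1 (hd fun h => hkl (ULift.ext _ _ h))
          (show c.base ((pullback.fst (𝒰.f k) (𝒰.f l) ≫ 𝒰.f k).base z) ∈ D k.down from
            ((pullback.fst (𝒰.f k) (𝒰.f l)).base z).2) ?_
        exact Set.mem_of_eq_of_mem e ((pullback.snd (𝒰.f k) (𝒰.f l)).base z).2⟩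
      exact isInitialOfIsEmpty.hom_ext _ _
  have hgP : ∀ k, (c ⁻¹ᵁ D k.down).ι ≫ gP = g₂ k := fun k => 𝒰.ι_glueMorphisms _ _ k
  obtain ⟨s, hs, hs'⟩ := hc.exists_section (Sigma.desc q) gP (𝒰.hom_ext _ _ fun k => by
    change (c ⁻¹ᵁ D k.down).ι ≫ gP ≫ Sigma.desc q = (c ⁻¹ᵁ D k.down).ι ≫ c
    rw [← Category.assoc, hgP, Category.assoc, Sigma.ι_desc, pullback.lift_fst_assoc]
    exact Scheme.Hom.resLE_comp_ι _ _)
  let d : ∐ P ⟶ V := Sigma.desc fun k => pullback.snd (a' k.down) (p k.down) ≫ (O (σ k.down)).ι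
  have hd' : d ≫ v = Sigma.desc q ≫ a := Limits.Sigma.hom_ext _ _ fun k => by
    rw [Sigma.ι_desc_assoc, Sigma.ι_desc_assoc]
    simp only [q, Category.assoc]
    rw [← hp, ← ha', pullback.condition_assoc]
  refine ⟨s ≫ d, ⟨?_, ?_⟩, fun h' ⟨h1, h2⟩ => hc.hom_ext v ?_ ?_⟩
  · rw [Category.assoc, hd', ← Category.assoc, hs, Category.id_comp]
  · rw [← Category.assoc, hs']
    refine 𝒰.hom_ext _ _ fun k => ?_
    change (c ⁻¹ᵁ D k.down).ι ≫ gP ≫ d = (c ⁻¹ᵁ D k.down).ι ≫ g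
    rw [← Category.assoc, hgP, Category.assoc, Sigma.ι_desc, pullback.lift_snd_assoc]
    exact Scheme.Hom.resLE_comp_ι _ _
  · rw [h1, Category.assoc, hd', ← Category.assoc, hs, Category.id_comp]
  · rw [h2, ← Category.assoc, hs']
    refine Eq.symm (𝒰.hom_ext _ _ fun k => ?_)
    change (c ⁻¹ᵁ D k.down).ι ≫ gP ≫ d = (c ⁻¹ᵁ D k.down).ι ≫ g
    rw [← Category.assoc, hgP, Category.assoc, Sigma.ι_desc, pullback.lift_snd_assoc]
    exact Scheme.Hom.resLE_comp_ι _ _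

end Groth.Agent.ProEtPush13
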