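import Groth.Agent.ProEtPush13.UHLift
import Groth.Agent.ProEtPush13.ExtZero
import Groth.Agent.ProEtPush13.Pull

/-!
# Universal homeomorphisms and pro-étale sheaves
-/

set_option autoImplicit false
set_option backward.isDefEq.respectTransparency false
set_option backward.isDefEq.respectTransparency.types false
set_option linter.style.haveILetI false

noncomputable section

universe u

open CategoryTheory CategoryTheory.Limits AlgebraicGeometry Opposite TensorProduct

namespace Groth.Agent.ProEtPush13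

open Groth.Agent.ProEtLib Groth.Agent.SitePullUnit

/-- weakly contractible affines lift along universal homeomorphisms of affines -/
theorem exists_uhPair_lift {P₀ P B : Scheme.{u}} (k : P₀ ⟶ P) [IsAffine P] [IsIntegralHom k]
    [UniversallyInjective k] [AlgebraicGeometry.Surjective k] [IsAffine B] (t : B ⟶ P₀) [WeaklyEtale t]
    (hwc : EtPBC.IsWContractible Γ(B, ⊤)) :
    ∃ (W : Scheme.{u}) (w : W ⟶ P) (c : B ⟶ W), WeaklyEtale w ∧ IsUHPair c ∧
      CategoryTheory.IsPullback c t w k := by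
  haveI : IsAffine P₀ := isAffine_of_isAffineHom k
  letI := k.appTop.hom.toAlgebra
  letI := t.appTop.hom.toAlgebra
  have hsc : Arrow.mk (Spec.map k.appTop) ≅ Arrow.mk k :=
    Arrow.isoMk P₀.isoSpec.symm P.isoSpec.symm (Scheme.isoSpec_inv_naturality k).symm
  have hUH : IsUHRing Γ(P, ⊤) Γ(P₀, ⊤) :=
    ⟨((MorphismProperty.arrow_mk_iso_iff @IsIntegralHom hsc).2 ‹_›),
      ((MorphismProperty.arrow_mk_iso_iff @UniversallyInjective hsc).2 ‹_›),
      ((MorphismProperty.arrow_mk_iso_iff @AlgebraicGeometry.Surjective hsc).2 ‹_›)⟩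
  haveI : Algebra.WeaklyEtale Γ(P₀, ⊤) Γ(B, ⊤) := by
    have hsq : Spec.map t.appTop = B.isoSpec.inv ≫ t ≫ P₀.isoSpec.hom := by
      rw [← Scheme.isoSpec_hom_naturality t, Iso.inv_hom_id_assoc]
    exact (weaklyEtale_spec_iff _).1 (by rw [hsq]; infer_instance)
  obtain ⟨H, _, _, hwe, ⟨e⟩⟩ := hUH.exists_algebra_lift Γ(B, ⊤) hwc
  let W := Spec (CommRingCat.of H)
  let w : W ⟶ P := Spec.map (CommRingCat.ofHom (algebraMap Γ(P, ⊤) H)) ≫ P.isoSpec.inv
  let π : H →+* Γ(B, ⊤) := e.toRingEquiv.toRingHom.comp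
    (Algebra.TensorProduct.includeRight (R := Γ(P, ⊤)) (A := Γ(P₀, ⊤)) (B := H)).toRingHom
  let c : B ⟶ W := B.isoSpec.hom ≫ Spec.map (CommRingCat.ofHom π)
  haveI hw : WeaklyEtale w := by
    haveI := weaklyEtale_spec Γ(P, ⊤) H
    infer_instance
  have hpo : CategoryTheory.IsPushout k.appTop (CommRingCat.ofHom (algebraMap Γ(P, ⊤) H)) t.appTop
      (CommRingCat.ofHom π) := by
    refine (CommRingCat.isPushout_tensorProduct Γ(P, ⊤) Γ(P₀, ⊤) H).of_iso (Iso.refl _) (Iso.refl _) (Iso.refl _)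
      e.toRingEquiv.toCommRingCatIso ?_ ?_ ?_ ?_
    · simp only [Iso.refl_hom, Category.id_comp, Category.comp_id]
      rfl
    · simp
    · simp only [Iso.refl_hom, Category.id_comp]
      ext a
      exact e.commutes a
    · simp only [Iso.refl_hom, Category.id_comp]
      rfl
  have hspec : CategoryTheory.IsPullback (Spec.map (CommRingCat.ofHom π)) (Spec.map t.appTop)
      (Spec.map (CommRingCat.ofHom (algebraMap Γ(P, ⊤) H))) (Spec.map k.appTop) :=
    (isPullback_SpecMap_of_isPushout _ _ _ _ hpo).flip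
  have hsq : CategoryTheory.IsPullback c t w k := by
    refine hspec.of_iso B.isoSpec.symm (Iso.refl _) P₀.isoSpec.symm P.isoSpec.symm ?_ ?_ ?_ ?_
    · simp [c]
    · exact (Scheme.isoSpec_inv_naturality t)
    · simp [w]
    · exact (Scheme.isoSpec_inv_naturality k)
  exact ⟨W, w, c, hw, ⟨inferInstanceAs (IsAffine (Spec (CommRingCat.of H))),
    MorphismProperty.of_isPullback (P := @IsIntegralHom) hsq.flip ‹_›,
    MorphismProperty.of_isPullback (P := @UniversallyInjective) hsq.flip ‹_›,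
    MorphismProperty.of_isPullback (P := @AlgebraicGeometry.Surjective) hsq.flip ‹_›, hwc⟩, hsq⟩

variable {Z X : Scheme.{u}} {i : Z ⟶ X}

variable (i) in
/-- objects whose restriction is weakly contractible -/
abbrev IsUH (W : X.ProEt) : Prop := IsUHPair (pullback.fst W.hom i)

theorem IsUH.map_bijective {W : X.ProEt} (hW : IsUH i W) (V : X.ProEt) :
    Function.Bijective (fun h : W ⟶ V => (ProEtS.bcP i).map h) := by
  haveI : WeaklyEtale V.hom := V.prop
  have hfst : ∀ h : W ⟶ V, ((ProEtS.bcP i).map h).left ≫ pullback.fst V.hom i = pullback.fst W.hom i ≫ h.left :=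
    fun h => pullback.lift_fst _ _ _
  refine ⟨fun h h' e => MorphismProperty.Over.Hom.ext (hW.hom_ext V.hom
    ((MorphismProperty.Over.w h).trans (MorphismProperty.Over.w h').symm) ?_), fun b => ?_⟩
  · rw [← hfst h, ← hfst h']
    exact congrArg (fun m : (ProEtS.bcP i).obj W ⟶ (ProEtS.bcP i).obj V => m.left ≫ pullback.fst V.hom i) e
  · obtain ⟨h, ⟨h1, h2⟩, -⟩ := hW.existsUnique_hom V.hom W.hom (b.left ≫ pullback.fst V.hom i) (by
      rw [Category.assoc, pullback.condition, ← Category.assoc]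
      exact (congrArg (· ≫ i) (MorphismProperty.Over.w b)).trans pullback.condition.symm)
    refine ⟨MorphismProperty.Over.homMk h h1, MorphismProperty.Over.Hom.ext ?_⟩
    refine pullback.hom_ext ((hfst _).trans h2) ?_
    exact (MorphismProperty.Over.w ((ProEtS.bcP i).map (MorphismProperty.Over.homMk h h1 : W ⟶ V))).trans
      (MorphismProperty.Over.w b).symm

theorem IsUH.criterion {W : X.ProEt} (hW : IsUH i W) : Criterion ((ProEtS.bcP i).obj W) := by
  haveI : IsAffine ((ProEtS.bcP i).obj W).left := hW.affine₀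
  exact criterion_of_wContractible hW.wc

variable [ProEtS.PCont i]

/-- sections over a universal homeomorphism pair are sections of the inverse image over its restriction -/
theorem IsUH.conUnit_bijective {W : X.ProEt} (hW : IsUH i W) (F : ProEtS.AbP X) :
    Function.Bijective ((conUnit (ProEtS.bcP i) (Scheme.ProEt.topology Z) F).app (op W)) := by
  have : RepresentablyFlat (ProEtS.bcP i) := flat_of_preservesFiniteLimits _
  let G := ProEtS.bcP i
  let K := Scheme.ProEt.topology Z
  let d : Z.ProEt := G.obj W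
  have hcr : Criterion d := hW.criterion
  have hF : Presieve.IsSheaf (Scheme.ProEt.topology X) (F.obj ⋙ forget AddCommGrpCat.{u + 1}) :=
    (isSheaf_iff_isSheaf_of_type _ _).1
      ((sheafCompose (Scheme.ProEt.topology X) (forget AddCommGrpCat.{u + 1})).obj F).2
  have hF0 : ∀ T : X.ProEt, IsEmpty T.left → Subsingleton ((F.obj ⋙ forget AddCommGrpCat.{u + 1}).obj (op T)) :=
    fun T h => subsingleton_of_isEmpty ((sheafCompose (Scheme.ProEt.topology X) (forget AddCommGrpCat.{u + 1})).obj F) T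
  have hunit : ∀ x : F.obj.obj (op W),
      (conUnit G K F).app (op W) x = sGerm G K F (𝟙 d) x := fun x => by
    rw [sGerm, op_id, CategoryTheory.Functor.map_id]
    rfl
  -- gluing the targets of maps from a clopen decomposition
  have glue : ∀ {n : ℕ} (D : Fin n → d.left.Opens),
      Pairwise (fun k l => Disjoint (D k : Set d.left) (D l)) → (∀ x, ∃ k, x ∈ D k) →
      ∀ (U : Fin n → X.ProEt) (b : ∀ k, opObj d (D k) ⟶ G.obj (U k)),
        ∃ (P : X.ProEt) (j : ∀ k, U k ⟶ P) (h : W ⟶ P), (∀ k, opHom d (D k) ≫ G.map h = b k ≫ G.map (j k)) ∧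
          (∀ t : ∀ k, F.obj.obj (op (U k)), ∃! s, ∀ k, F.obj.map (j k).op s = t k) ∧
          ∀ (V : X.ProEt) (g : ∀ k, U k ⟶ V), ∃ m : P ⟶ V, ∀ k, j k ≫ m = g k := by
    intro n D hd hc U b
    obtain ⟨hcol⟩ := isColimit_disjoint d D hd hc
    obtain ⟨P, j, hj, hdj, hcj⟩ := exists_sigma U
    obtain ⟨h, hh⟩ := (hW.map_bijective P).2 (Cofan.IsColimit.desc hcol fun k => b k ≫ G.map (j k))
    refine ⟨P, j, h, fun k => ?_, fun t => existsUnique_glue _ hF hF0 P U j hdj hcj t, fun V g => ?_⟩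
    · exact (congrArg (opHom d (D k) ≫ ·) hh).trans (Cofan.IsColimit.fac hcol _ k)
    · exact (existsUnique_glue (yoneda.obj V)
        (GrothendieckTopology.Subcanonical.isSheaf_of_isRepresentable _)
        (fun T hT => ⟨fun u v => MorphismProperty.Over.Hom.ext (isInitialOfIsEmpty.hom_ext _ _)⟩)
        P U j hdj hcj g).exists
  constructor
  · intro x y hxy
    rw [hunit, hunit] at hxy
    obtain ⟨R, hR, hloc⟩ := exists_cover_of_sGerm_eq G K F _ x y hxy
    obtain ⟨n, D, -, hd, hun, hD⟩ := hcr R hR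
    have hc : ∀ z, ∃ k, z ∈ D k := fun z => Set.mem_iUnion.1 (hun.symm ▸ Set.mem_univ z)
    choose U b c hbc hxy' using fun k => hloc _ (hD k)
    obtain ⟨P, j, h, hh, hglue, hdesc⟩ := glue D hd hc U b
    obtain ⟨m, hm⟩ := hdesc W c
    have hhm : h ≫ m = 𝟙 W := by
      obtain ⟨hcol⟩ := isColimit_disjoint d D hd hc
      refine (hW.map_bijective W).1 (Cofan.IsColimit.hom_ext hcol _ _ fun k => ?_)
      change opHom d (D k) ≫ G.map (h ≫ m) = opHom d (D k) ≫ G.map (𝟙 W)
      rw [G.map_comp, ← Category.assoc, hh k, Category.assoc, ← G.map_comp, hm k, hbc k, G.map_id,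
        Category.comp_id]
    have hmap : F.obj.map m.op x = F.obj.map m.op y :=
      (hglue fun k => F.obj.map (c k).op x).unique
        (fun k => by rw [← ConcreteCategory.comp_apply, ← Functor.map_comp, ← op_comp, hm k])
        (fun k => by rw [← ConcreteCategory.comp_apply, ← Functor.map_comp, ← op_comp, hm k, hxy' k])
    have e := congrArg (F.obj.map h.op) hmap
    simpa only [← ConcreteCategory.comp_apply, ← Functor.map_comp, ← op_comp, hhm, op_id,
      CategoryTheory.Functor.map_id, ConcreteCategory.id_apply] using e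
  · intro t
    obtain ⟨R, hR, hloc⟩ := exists_cover_sGerm G K F (d := d) t
    obtain ⟨n, D, -, hd, hun, hD⟩ := hcr R hR
    have hc : ∀ z, ∃ k, z ∈ D k := fun z => Set.mem_iUnion.1 (hun.symm ▸ Set.mem_univ z)
    choose U b x hx using fun k => hloc _ (hD k)
    obtain ⟨P, j, h, hh, hglue, -⟩ := glue D hd hc U b
    obtain ⟨s, hs, -⟩ := hglue x
    refine ⟨F.obj.map h.op s, ?_⟩
    rw [hunit, sGerm_map, Category.id_comp]
    haveI : ∀ k, IsOpenImmersion (opHom d (D k)).left := fun k => inferInstanceAs (IsOpenImmersion (D k).ι)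
    refine ((existsUnique_glue (pulled G K F ⋙ forget AddCommGrpCat.{u + 1}) ((isSheaf_iff_isSheaf_of_type _ _).1
      ((sheafCompose K (forget AddCommGrpCat.{u + 1})).obj ((presheafToSheaf K AddCommGrpCat.{u + 1}).obj (lanP G F))).2)
      (fun T hT => subsingleton_of_isEmpty ((sheafCompose K (forget AddCommGrpCat.{u + 1})).obj
        ((presheafToSheaf K AddCommGrpCat.{u + 1}).obj (lanP G F))) T)
      d (fun k => opObj d (D k)) (fun k => opHom d (D k)) (fun k l hkl => ?_) (fun z => ?_)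
      (fun k => (pulled G K F).map (opHom d (D k)).op t)).unique (fun k => ?_) fun k => rfl)
    · change Disjoint (Set.range (D k).ι.base) (Set.range (D l).ι.base)
      rw [Scheme.Opens.range_ι, Scheme.Opens.range_ι]
      exact hd hkl
    · obtain ⟨k, hk⟩ := hc z
      exact ⟨k, ⟨z, hk⟩, rfl⟩
    · change (pulled G K F).map (opHom d (D k)).op (sGerm G K F (G.map h) s) = _
      rw [map_sGerm, hh k, ← sGerm_map, hs k, hx k]

/-- the unit at universal homeomorphism pairs is bijective -/
theorem IsUH.unit_bijective {W : X.ProEt} (hW : IsUH i W) (F : ProEtS.AbP X) :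
    Function.Bijective (((ProEtS.pullPushAdjP i).unit.app F).hom.app (op W)) := by
  let ad := Functor.sheafPullbackConstruction.sheafAdjunctionContinuous (ProEtS.bcP i) AddCommGrpCat.{u + 1}
    (Scheme.ProEt.topology X) (Scheme.ProEt.topology Z)
  have h := Adjunction.unit_leftAdjointUniq_hom_app ad (ProEtS.pullPushAdjP i) F
  let θ : ad.unit.app F ≫ _ = _ := h
  rw [← θ]
  refine Function.Bijective.comp (g := (((ProEtS.pushP i).map ((Adjunction.leftAdjointUniq ad
    (ProEtS.pullPushAdjP i)).hom.app F)).hom.app (op W))) ?_ ?_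
  · exact ConcreteCategory.bijective_of_isIso ((((sheafToPresheaf _ _).mapIso ((ProEtS.pushP i).mapIso
      ((Adjunction.leftAdjointUniq ad (ProEtS.pullPushAdjP i)).app F))).app (op W)).hom)
  · change Function.Bijective ((ad.unit.app F).hom.app (op W))
    rw [unit_con]
    exact hW.conUnit_bijective F



variable [IsIntegralHom i] [UniversallyInjective i] [AlgebraicGeometry.Surjective i]

omit [ProEtS.PCont i] in
/-- objects with weakly contractible restriction cover -/
theorem exists_uh_cover (T : X.ProEt) :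
    ∃ (ι : Type u) (V : ι → X.ProEt) (g : ∀ k, V k ⟶ T),
      Sieve.generate (Presieve.ofArrows V g) ∈ Scheme.ProEt.topology X T ∧ ∀ k, IsUH i (V k) := by
  let κ := {P : T.left.Opens // IsAffineOpen P}
  have key : ∀ P : κ, ∃ (V : X.ProEt) (g : V ⟶ opObj T P.1),
      Sieve.generate (Presieve.singleton g) ∈ Scheme.ProEt.topology X (opObj T P.1) ∧ IsUH i V := fun P => by
    let U := opObj T P.1
    haveI : IsAffine U.left := P.2
    haveI : IsAffine ((𝟭 Scheme.{u}).obj U.left) := P.2
    let k := pullback.fst U.hom i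
    haveI : IsIntegralHom k := MorphismProperty.pullback_fst _ _ ‹_›
    haveI : UniversallyInjective k := MorphismProperty.pullback_fst _ _ ‹_›
    haveI : AlgebraicGeometry.Surjective k := MorphismProperty.pullback_fst _ _ ‹_›
    haveI : IsAffine ((ProEtS.bcP i).obj U).left := isAffine_of_isAffineHom k
    obtain ⟨G, _, _, hff, hie, hwc⟩ := WStrictLib.exists_wContractible Γ(((ProEtS.bcP i).obj U).left, ⊤)
    haveI : Algebra.WeaklyEtale Γ(((ProEtS.bcP i).obj U).left, ⊤) G := S0736.result _ _ hie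
    haveI := weaklyEtale_spec Γ(((ProEtS.bcP i).obj U).left, ⊤) G
    haveI hs : AlgebraicGeometry.Surjective
        (Spec.map (CommRingCat.ofHom (algebraMap Γ(((ProEtS.bcP i).obj U).left, ⊤) G))) :=
      ⟨PrimeSpectrum.comap_surjective_of_faithfullyFlat⟩
    let t : Spec (CommRingCat.of G) ⟶ pullback U.hom i :=
      Spec.map (CommRingCat.ofHom (algebraMap Γ(((ProEtS.bcP i).obj U).left, ⊤) G)) ≫
        ((ProEtS.bcP i).obj U).left.isoSpec.inv
    haveI : AlgebraicGeometry.Surjective t := inferInstanceAs (AlgebraicGeometry.Surjective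
      (Spec.map _ ≫ ((ProEtS.bcP i).obj U).left.isoSpec.inv))
    haveI : WeaklyEtale t := inferInstanceAs (WeaklyEtale
      (Spec.map _ ≫ ((ProEtS.bcP i).obj U).left.isoSpec.inv))
    obtain ⟨W, w, c, hw, hc, hsq⟩ := exists_uhPair_lift k t
      (wContractible_of_ringEquiv (Scheme.ΓSpecIso (CommRingCat.of G)).symm.commRingCatIsoToRingEquiv hwc)
    haveI := hw
    haveI : IsAffine W := hc.affine
    haveI : AlgebraicGeometry.Surjective w := by
      haveI : AlgebraicGeometry.Surjective (c ≫ w) := by rw [hsq.w]; infer_instance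
      exact .of_comp c w
    haveI : WeaklyEtale U.hom := U.prop
    let V : X.ProEt := Scheme.ProEt.mk (w ≫ U.hom)
    let g : V ⟶ U := MorphismProperty.Over.homMk w
    refine ⟨V, g, @singleton_mem_topology _ _ _ g (inferInstanceAs (QuasiCompact w))
      (inferInstanceAs (AlgebraicGeometry.Surjective w)), ?_⟩
    have hp : CategoryTheory.IsPullback c (t ≫ pullback.snd U.hom i) (w ≫ U.hom) i :=
      hsq.paste_vert (IsPullback.of_hasPullback U.hom i)
    show IsUHPair (pullback.fst (w ≫ U.hom) i)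
    have e : pullback.fst (w ≫ U.hom) i = hp.isoPullback.inv ≫ c := hp.isoPullback_inv_fst.symm
    haveI := hc.integral; haveI := hc.inj; haveI := hc.surj
    refine ⟨hc.affine, e ▸ inferInstance, e ▸ ?_, e ▸ inferInstance, wContractible_of_ringEquiv ?_ hc.wc⟩
    · exact MorphismProperty.comp_mem (W := @UniversallyInjective) _ _ inferInstance ‹_›
    · exact (asIso hp.isoPullback.inv.appTop).commRingCatIsoToRingEquiv
  choose V g hg hV using key
  refine ⟨κ, V, fun P => g P ≫ opHom T P.1, mem_topology_of_family _ _ _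
    (opens_mem_topology T (fun P : κ => P.1) fun x => ?_) fun P => ?_, hV⟩
  · obtain ⟨P, hP, hxP, -⟩ := exists_isAffineOpen_mem_and_subset (U := (⊤ : T.left.Opens)) (x := x) trivial
    exact ⟨⟨P, hP⟩, hxP⟩
  · refine GrothendieckTopology.superset_covering _ ?_ (hg P)
    rintro Y f ⟨_, a, _, ⟨⟩, rfl⟩
    exact ⟨_, a, _, Presieve.ofArrows.mk (f := fun P : κ => g P ≫ opHom T P.1) P, (Category.assoc _ _ _).symm⟩

omit [ProEtS.PCont i] in
/-- restrictions of such objects cover the source -/
theorem exists_uh_cover_source (T : Z.ProEt) :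
    ∃ (ι : Type u) (V : ι → Z.ProEt) (g : ∀ k, V k ⟶ T),
      Sieve.generate (Presieve.ofArrows V g) ∈ Scheme.ProEt.topology Z T ∧
        ∀ k, ∃ W : X.ProEt, IsUH i W ∧ Nonempty ((ProEtS.bcP i).obj W ≅ V k) := by
  let κ := {p : T.left.Opens × X.Opens // IsAffineOpen p.1 ∧ IsAffineOpen p.2 ∧ p.1 ≤ (T.hom ≫ i) ⁻¹ᵁ p.2}
  choose ι V g hg hV using fun p : κ => exists_wc_cover_family (opObj T p.1.1)
  refine ⟨Σ p : κ, ι p, fun q => V q.1 q.2, fun q => g q.1 q.2 ≫ opHom T q.1.1.1, ?_, fun q => ?_⟩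
  · refine mem_topology_of_family _ _ _ (opens_mem_topology T (fun p : κ => p.1.1) fun x => ?_) fun p => ?_
    · obtain ⟨O, hO, hxO, -⟩ := exists_isAffineOpen_mem_and_subset (U := (⊤ : X.Opens))
        (x := (T.hom ≫ i).base x) trivial
      obtain ⟨P, hP, hxP, hPO⟩ := exists_isAffineOpen_mem_and_subset (U := (T.hom ≫ i) ⁻¹ᵁ O) (x := x) hxO
      exact ⟨⟨⟨P, O⟩, hP, hO, hPO⟩, hxP⟩
    · refine GrothendieckTopology.superset_covering _ ?_ (hg p)
      rintro Y f ⟨_, a, _, ⟨k⟩, rfl⟩
      exact ⟨_, a, _, Presieve.ofArrows.mk (f := fun q : Σ p : κ, ι p => g q.1 q.2 ≫ opHom T q.1.1.1) ⟨p, k⟩,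
        (Category.assoc _ _ _).symm⟩
  · obtain ⟨hA, hwc⟩ := hV q.1 q.2
    let B := V q.1 q.2
    let O := q.1.1.2
    haveI : IsAffine B.left := hA
    haveI : IsAffine (O : Scheme.{u}) := q.1.2.2.1
    haveI : IsIntegralHom (i ∣_ O) := IsZariskiLocalAtTarget.restrict ‹_› O
    haveI : UniversallyInjective (i ∣_ O) := IsZariskiLocalAtTarget.restrict ‹_› O
    haveI : AlgebraicGeometry.Surjective (i ∣_ O) := IsZariskiLocalAtTarget.restrict ‹_› O
    let t : B.left ⟶ (i ⁻¹ᵁ O : Scheme.{u}) := IsOpenImmersion.lift (i ⁻¹ᵁ O).ι B.hom (by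
      rintro _ ⟨b, rfl⟩
      rw [Scheme.Opens.range_ι]
      have hm : ((g q.1 q.2).left ≫ q.1.1.1.ι).base b ∈ q.1.1.1 := ((g q.1 q.2).left.base b).2
      have e : (g q.1 q.2).left ≫ q.1.1.1.ι ≫ T.hom = B.hom := MorphismProperty.Over.w (g q.1 q.2)
      show i.base (B.hom.base b) ∈ O
      rw [← e]
      exact q.1.2.2.2 hm)
    have ht : t ≫ (i ⁻¹ᵁ O).ι = B.hom := IsOpenImmersion.lift_fac _ _ _
    haveI : WeaklyEtale B.hom := B.prop
    haveI : WeaklyEtale (t ≫ (i ⁻¹ᵁ O).ι) := by rw [ht]; infer_instance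
    haveI : WeaklyEtale t := MorphismProperty.of_postcomp (W := @WeaklyEtale) (W' := @WeaklyEtale) t (i ⁻¹ᵁ O).ι
      inferInstance inferInstance
    obtain ⟨W, w, c, hw, hc, hsq⟩ := exists_uhPair_lift (i ∣_ O) t hwc
    haveI := hw
    have hp : CategoryTheory.IsPullback c B.hom (w ≫ O.ι) i := by
      have h := hsq.paste_vert (isPullback_morphismRestrict i O)
      rwa [ht] at h
    refine ⟨Scheme.ProEt.mk (w ≫ O.ι), ?_, ⟨MorphismProperty.Over.isoMk hp.isoPullback.symm hp.isoPullback_inv_snd⟩⟩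
    show IsUHPair (pullback.fst (w ≫ O.ι) i)
    have e : pullback.fst (w ≫ O.ι) i = hp.isoPullback.inv ≫ c := hp.isoPullback_inv_fst.symm
    haveI := hc.integral; haveI := hc.inj; haveI := hc.surj
    refine ⟨hc.affine, e ▸ inferInstance, e ▸ ?_, e ▸ inferInstance, wContractible_of_ringEquiv ?_ hc.wc⟩
    · exact MorphismProperty.comp_mem (W := @UniversallyInjective) _ _ inferInstance ‹_›
    · exact (asIso hp.isoPullback.inv.appTop).commRingCatIsoToRingEquiv

theorem unit_isIso (F : ProEtS.AbP X) : IsIso ((ProEtS.pullPushAdjP i).unit.app F) := by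
  let η : F ⟶ (ProEtS.pushP i).obj ((ProEtS.pullP i).obj F) := (ProEtS.pullPushAdjP i).unit.app F
  refine (Sheaf.isLocallyBijective_iff_isIso η).1 ⟨⟨fun {T} x y hxy => ?_⟩, ⟨fun {T} s => ?_⟩⟩
  · obtain ⟨ι, V, g, hg, hV⟩ := exists_uh_cover (i := i) T.unop
    refine GrothendieckTopology.superset_covering _ ?_ hg
    refine (Sieve.generate_le_iff _ _).2 ?_
    rintro _ _ ⟨k⟩
    refine ((hV k).unit_bijective F).1 ?_
    change η.hom.app _ (F.obj.map (g k).op x) = η.hom.app _ (F.obj.map (g k).op y)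
    rw [NatTrans.naturality_apply, NatTrans.naturality_apply, hxy]
  · obtain ⟨ι, V, g, hg, hV⟩ := exists_uh_cover (i := i) T
    refine GrothendieckTopology.superset_covering _ ?_ hg
    refine (Sieve.generate_le_iff _ _).2 ?_
    rintro _ _ ⟨k⟩
    exact ((hV k).unit_bijective F).2 _

omit [ProEtS.PCont i] in
/-- morphisms bijective over such objects are isomorphisms -/
theorem isIso_of_uh {G H : ProEtS.AbP Z} (φ : G ⟶ H)
    (h : ∀ W : X.ProEt, IsUH i W → Function.Bijective (φ.hom.app (op ((ProEtS.bcP i).obj W)))) : IsIso φ := by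
  have hb : ∀ T : Z.ProEt, (∃ W : X.ProEt, IsUH i W ∧ Nonempty ((ProEtS.bcP i).obj W ≅ T)) →
      Function.Bijective (φ.hom.app (op T)) := by
    rintro T ⟨W, hW, ⟨e⟩⟩
    have := (ConcreteCategory.isIso_iff_bijective _).2 (h W hW)
    have e1 : φ.hom.app (op T) = G.obj.map e.hom.op ≫ φ.hom.app (op ((ProEtS.bcP i).obj W)) ≫ H.obj.map e.inv.op := by
      rw [φ.hom.naturality_assoc, ← Functor.map_comp, ← op_comp, e.inv_hom_id, op_id,
        CategoryTheory.Functor.map_id, Category.comp_id]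
    rw [e1]
    exact ConcreteCategory.bijective_of_isIso _
  refine (Sheaf.isLocallyBijective_iff_isIso φ).1 ⟨⟨fun {T} x y hxy => ?_⟩, ⟨fun {T} s => ?_⟩⟩
  · obtain ⟨ι, V, g, hg, hV⟩ := exists_uh_cover_source (i := i) T.unop
    refine GrothendieckTopology.superset_covering _ ?_ hg
    refine (Sieve.generate_le_iff _ _).2 ?_
    rintro _ _ ⟨k⟩
    refine (hb _ (hV k)).1 ?_
    change φ.hom.app _ (G.obj.map (g k).op x) = φ.hom.app _ (G.obj.map (g k).op y)
    rw [NatTrans.naturality_apply, NatTrans.naturality_apply, hxy]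
  · obtain ⟨ι, V, g, hg, hV⟩ := exists_uh_cover_source (i := i) T
    refine GrothendieckTopology.superset_covering _ ?_ hg
    refine (Sieve.generate_le_iff _ _).2 ?_
    rintro _ _ ⟨k⟩
    exact (hb _ (hV k)).2 _

theorem uh_counit_isIso (G : ProEtS.AbP Z) : IsIso ((ProEtS.pullPushAdjP i).counit.app G) := by
  refine isIso_of_uh (i := i) _ fun W hW => ?_
  have h := (ProEtS.pullPushAdjP i).right_triangle_components G
  have h' : ⇑(((ProEtS.pullPushAdjP i).counit.app G).hom.app (op ((ProEtS.bcP i).obj W))) ∘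
      ⇑(((ProEtS.pullPushAdjP i).unit.app ((ProEtS.pushP i).obj G)).hom.app (op W)) = id :=
    funext fun x => ConcreteCategory.congr_hom (congrArg (fun m => m.hom.app (op W)) h) x
  have hb := hW.unit_bijective ((ProEtS.pushP i).obj G)
  exact (Function.Bijective.of_comp_iff _ hb).1 (h' ▸ Function.bijective_id)

theorem pushP_isEquivalence : (ProEtS.pushP i).IsEquivalence := by
  haveI : ∀ F, IsIso ((ProEtS.pullPushAdjP i).unit.app F) := unit_isIso
  haveI : ∀ G, IsIso ((ProEtS.pullPushAdjP i).counit.app G) := uh_counit_isIso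
  haveI : IsIso (ProEtS.pullPushAdjP i).unit := NatIso.isIso_of_isIso_app _
  haveI : IsIso (ProEtS.pullPushAdjP i).counit := NatIso.isIso_of_isIso_app _
  exact (ProEtS.pullPushAdjP i).toEquivalence.isEquivalence_inverse

end Groth.Agent.ProEtPush13
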