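import Groth.Agent.ProEtPush13.Ring
import Groth.Agent.ProEtLib.Ring
import Groth.Agent.EtFound.TopInv
import Groth.Agent.S0075
import Groth.Agent.S0593
import Mathlib.AlgebraicGeometry.Morphisms.Integral
import Mathlib.AlgebraicGeometry.Morphisms.UniversallyInjective
import Mathlib.RingTheory.Ideal.GoingUp

/-!
# Weakly étale algebras along universal homeomorphisms of rings
-/

set_option autoImplicit false
set_option backward.isDefEq.respectTransparency.types false
set_option linter.style.haveILetI false

noncomputable section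

universe u

open CategoryTheory CategoryTheory.Limits AlgebraicGeometry TensorProduct

namespace Groth.Agent.ProEtPush13

/-- integral, universally injective, surjective on spectra -/
structure IsUHRing (A A₀ : Type u) [CommRing A] [CommRing A₀] [Algebra A A₀] : Prop where
  integral : IsIntegralHom (Spec.map (CommRingCat.ofHom (algebraMap A A₀)))
  inj : UniversallyInjective (Spec.map (CommRingCat.ofHom (algebraMap A A₀)))
  surj : AlgebraicGeometry.Surjective (Spec.map (CommRingCat.ofHom (algebraMap A A₀)))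

namespace IsUHRing

variable {R A A₀ : Type u} [CommRing R] [CommRing A] [CommRing A₀] [Algebra A A₀]

theorem injective_comap (h : IsUHRing A A₀) : Function.Injective (PrimeSpectrum.comap (algebraMap A A₀)) := by
  haveI := h.inj
  exact (Spec.map (CommRingCat.ofHom (algebraMap A A₀))).injective

theorem surjective_comap (h : IsUHRing A A₀) : Function.Surjective (PrimeSpectrum.comap (algebraMap A A₀)) := by
  haveI := h.surj
  exact (Spec.map (CommRingCat.ofHom (algebraMap A A₀))).surjective

theorem ker_le_jacobson (h : IsUHRing A A₀) : RingHom.ker (algebraMap A A₀) ≤ Ideal.jacobson ⊥ :=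
  le_sInf fun m ⟨_, hm⟩ x hx => by
    obtain ⟨q, hq⟩ := h.surjective_comap ⟨m, hm.isPrime⟩
    have h1 : q.asIdeal.comap (algebraMap A A₀) = m := congrArg PrimeSpectrum.asIdeal hq
    rw [← h1, Ideal.mem_comap, RingHom.mem_ker.1 hx]
    exact zero_mem _

theorem isIntegral_algebraMap (h : IsUHRing A A₀) : (algebraMap A A₀).IsIntegral :=
  IsIntegralHom.SpecMap_iff.1 h.integral

theorem tensor (h : IsUHRing A A₀) (B : Type u) [CommRing B] [Algebra A B] :
    IsUHRing B (B ⊗[A] A₀) := by
  have hp := isPullback_SpecMap_of_isPushout _ _ _ _ (CommRingCat.isPushout_tensorProduct A B A₀)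
  haveI := h.integral
  haveI := h.inj
  haveI := h.surj
  exact ⟨MorphismProperty.of_isPullback (P := @IsIntegralHom) hp.flip ‹_›,
    MorphismProperty.of_isPullback (P := @UniversallyInjective) hp.flip ‹_›,
    MorphismProperty.of_isPullback (P := @AlgebraicGeometry.Surjective) hp.flip ‹_›⟩

variable [Algebra R A] [Algebra R A₀] [IsScalarTower R A A₀]

/-- lifts of maps from weakly étale algebras are unique -/
theorem lift_unique (h : IsUHRing A A₀) {B : Type u} [CommRing B] [Algebra R B] [Algebra.WeaklyEtale R B]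
    (f g : B →ₐ[R] A) (hfg : (IsScalarTower.toAlgHom R A A₀).comp f = (IsScalarTower.toAlgHom R A A₀).comp g) :
    f = g :=
  ProEtPush13.lift_unique h.ker_le_jacobson f g fun b => by
    rw [Ideal.Quotient.eq, RingHom.mem_ker, map_sub, sub_eq_zero]
    exact congr($hfg b)

/-- maps from étale algebras lift -/
theorem exists_lift_etale (h : IsUHRing A A₀) {C : Type u} [CommRing C] [Algebra R C] [Algebra.Etale R C]
    (σ : C →ₐ[R] A₀) : ∃ τ : C →ₐ[R] A, (IsScalarTower.toAlgHom R A A₀).comp τ = σ := by
  let D := A ⊗[R] C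
  let g := Spec.map (CommRingCat.ofHom (algebraMap A A₀))
  haveI : IsIntegralHom g := h.integral
  haveI : UniversallyInjective g := h.inj
  haveI : AlgebraicGeometry.Surjective g := h.surj
  let X : Over (Spec (CommRingCat.of A)) := Over.mk (Spec.map (CommRingCat.ofHom (algebraMap A D)))
  let Y : Over (Spec (CommRingCat.of A)) := Over.mk (𝟙 (Spec (CommRingCat.of A)))
  haveI : Etale X.hom := HasRingHomProperty.Spec_iff.2 (RingHom.etale_algebraMap.2 inferInstance)
  let ψ : D →ₐ[A] A₀ := Algebra.TensorProduct.lift (Algebra.ofId A A₀) σ fun _ _ => .all _ _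
  let s₀ : pullback Y.hom g ⟶ Spec (CommRingCat.of D) :=
    pullback.snd Y.hom g ≫ Spec.map (CommRingCat.ofHom ψ.toRingHom)
  have hs₀ : s₀ ≫ X.hom = pullback.snd Y.hom g ≫ g := by
    rw [Category.assoc]
    refine congrArg (pullback.snd Y.hom g ≫ ·) ((Spec.map_comp _ _).symm.trans (congrArg Spec.map ?_))
    ext a
    exact ψ.commutes a
  obtain ⟨φ, hφ⟩ := EtFound.surjective_pullback_map g X Y
    (Over.homMk (pullback.lift s₀ (pullback.snd Y.hom g) hs₀) (pullback.lift_snd _ _ _))
  obtain ⟨t, ht⟩ := Spec.map_surjective φ.left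
  have h1 : pullback.fst Y.hom g ≫ φ.left = s₀ := by
    have e := congrArg (fun k => k.left ≫ pullback.fst X.hom g) hφ
    exact (pullback.lift_fst _ _ _).symm.trans (e.trans (pullback.lift_fst _ _ _))
  have h2 : CommRingCat.ofHom (algebraMap A D) ≫ t = 𝟙 _ := Spec.map_injective (by
    rw [Spec.map_comp, ht, Spec.map_id]
    exact Over.w φ)
  have h3 : t ≫ CommRingCat.ofHom (algebraMap A A₀) = CommRingCat.ofHom ψ.toRingHom := Spec.map_injective (by
    rw [Spec.map_comp, ht]
    haveI : IsIso (pullback.snd Y.hom g) := by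
      haveI : IsIso Y.hom := IsIso.id _
      infer_instance
    refine (cancel_epi (pullback.snd Y.hom g)).1 (Eq.trans ?_ h1)
    rw [← Category.assoc, ← pullback.condition]
    exact congrArg (· ≫ φ.left) (Category.comp_id _))
  let τ' : D →ₐ[A] A := { t.hom with commutes' := fun a => ConcreteCategory.congr_hom h2 a }
  refine ⟨(τ'.restrictScalars R).comp Algebra.TensorProduct.includeRight, AlgHom.ext fun c => ?_⟩
  exact (ConcreteCategory.congr_hom h3 ((1 : A) ⊗ₜ[R] c)).trans
    ((congrArg (fun z => z * σ c) (map_one (Algebra.ofId A A₀))).trans (one_mul _))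

/-- maps from ind-étale algebras lift -/
theorem exists_lift_indEtale (h : IsUHRing A A₀) {B : Type u} [CommRing B] [Algebra R B]
    (hB : EtPBC.IsIndEtale R B) (σ : B →ₐ[R] A₀) :
    ∃ τ : B →ₐ[R] A, (IsScalarTower.toAlgHom R A A₀).comp τ = σ := by
  obtain ⟨S, hS, ⟨e⟩⟩ := IndEtLib.exists_sys hB
  choose t ht using fun j => haveI := hS j
    h.exists_lift_etale (R := R) (σ.comp (e.toAlgHom.comp (S.ι j)))
  have htr : ∀ {i j} (f : i ⟶ j), (t j).comp (S.tr f) = t i := fun {i j} f => by
    haveI := hS i
    refine h.lift_unique _ _ ?_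
    rw [← AlgHom.comp_assoc, ht j, ht i, AlgHom.comp_assoc, AlgHom.comp_assoc, S.ι_tr]
  let c : CategoryTheory.Limits.Cocone S.D :=
    { pt := CategoryTheory.Under.mk (CommRingCat.ofHom (algebraMap R A))
      ι :=
        { app := fun j => CategoryTheory.Under.homMk (CommRingCat.ofHom (t j).toRingHom)
            (by ext a; exact (t j).commutes a)
          naturality := fun i j f => by
            apply CategoryTheory.Under.UnderMorphism.ext
            ext x
            exact congr($(htr f) x) } }
  let d : S.pt →ₐ[R] A :=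
    { (S.hc.desc c).right.hom with
      commutes' := fun a => CategoryTheory.ConcreteCategory.congr_hom (CategoryTheory.Under.w (S.hc.desc c)) a }
  have hd : ∀ j x, d (S.ι j x) = t j x := fun j x =>
    CategoryTheory.ConcreteCategory.congr_hom (congrArg (fun m => m.right) (S.hc.fac c j)) x
  refine ⟨d.comp e.symm.toAlgHom, AlgHom.ext fun b => ?_⟩
  obtain ⟨j, x, hx⟩ := S.surj (e.symm b)
  simp only [AlgHom.comp_apply, AlgEquiv.toAlgHom_apply]
  rw [← hx, hd j x]
  have := congr($(ht j) x)
  simp only [AlgHom.comp_apply, AlgEquiv.toAlgHom_apply] at this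
  rw [this, hx, AlgEquiv.apply_symm_apply]

/-- maps from weakly étale algebras lift when the target is weakly contractible -/
theorem exists_lift (h : IsUHRing A A₀) (hwc : EtPBC.IsWContractible A₀) {B : Type u} [CommRing B]
    [Algebra R B] [Algebra.WeaklyEtale R B] (σ : B →ₐ[R] A₀) :
    ∃ τ : B →ₐ[R] A, (IsScalarTower.toAlgHom R A A₀).comp τ = σ := by
  obtain ⟨B', _, _, _, _, hff, hBB', hRB'⟩ := WStrictLib.exists_indEtale_cover (A := R) (B := B)
  letI : Algebra B A₀ := σ.toRingHom.toAlgebra
  haveI : IsScalarTower R B A₀ := IsScalarTower.of_algebraMap_eq fun r => (σ.commutes r).symm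
  haveI := hff
  haveI := S0736.result B B' hBB'
  obtain ⟨r⟩ := hwc (A₀ ⊗[B] B') inferInstance inferInstance
  let σ' : B' →ₐ[R] A₀ := ((r.restrictScalars B).comp Algebra.TensorProduct.includeRight).restrictScalars R
  obtain ⟨τ, hτ⟩ := h.exists_lift_indEtale hRB' σ'
  refine ⟨τ.comp (IsScalarTower.toAlgHom R B B'), ?_⟩
  rw [← AlgHom.comp_assoc, hτ]
  ext b
  show r ((1 : A₀) ⊗ₜ[B] algebraMap B B' b) = σ b
  rw [Algebra.algebraMap_eq_smul_one, TensorProduct.tmul_smul, TensorProduct.smul_tmul']
  have : (σ b) ⊗ₜ[B] (1 : B') = algebraMap A₀ (A₀ ⊗[B] B') (σ b) := rfl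
  rw [show b • (1 : A₀) = σ b by rw [Algebra.smul_def, mul_one]; rfl, this, r.commutes]
  rfl

end IsUHRing

/-- étale algebras lift along universal homeomorphisms -/
theorem IsUHRing.exists_etale_algebra_lift {A A₀ : Type u} [CommRing A] [CommRing A₀] [Algebra A A₀]
    (h : IsUHRing A A₀) (C : Type u) [CommRing C] [Algebra A₀ C] [Algebra.Etale A₀ C] :
    ∃ (E : Type u) (_ : CommRing E) (_ : Algebra A E), Algebra.Etale A E ∧
      Nonempty (A₀ ⊗[A] E ≃ₐ[A₀] C) := by
  let g := Spec.map (CommRingCat.ofHom (algebraMap A A₀))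
  haveI : IsIntegralHom g := h.integral
  haveI : UniversallyInjective g := h.inj
  haveI : AlgebraicGeometry.Surjective g := h.surj
  haveI : (EtCoh.bc g).IsEquivalence := S0075.result g
  haveI : Etale (Spec.map (CommRingCat.ofHom (algebraMap A₀ C))) :=
    HasRingHomProperty.Spec_iff.2 (RingHom.etale_algebraMap.2 inferInstance)
  let X : (Spec (CommRingCat.of A₀)).Etale := Scheme.Etale.mk (Spec.map (CommRingCat.ofHom (algebraMap A₀ C)))
  let V := (EtCoh.bc g).objPreimage X
  let e : pullback V.hom g ≅ Spec (CommRingCat.of C) :=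
    (MorphismProperty.Over.forget _ _ _ ⋙ CategoryTheory.Over.forget _).mapIso ((EtCoh.bc g).objObjPreimageIso X)
  have he : e.hom ≫ Spec.map (CommRingCat.ofHom (algebraMap A₀ C)) = pullback.snd V.hom g :=
    MorphismProperty.Over.w ((EtCoh.bc g).objObjPreimageIso X).hom
  haveI : IsAffine (pullback V.hom g) := IsAffine.of_isIso e.hom
  haveI : IsAffine V.left := S0593.result _ _ (pullback.fst V.hom g)
  haveI : Etale V.hom := V.prop
  obtain ⟨t, ht⟩ := Spec.map_surjective (V.left.isoSpec.inv ≫ V.hom)
  let E : Type u := Γ(V.left, ⊤)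
  letI : Algebra A E := t.hom.toAlgebra
  have het : Algebra.Etale A E := by
    have h1 : Etale (Spec.map t) := by rw [ht]; infer_instance
    exact RingHom.etale_algebraMap.1 (HasRingHomProperty.Spec_iff.1 h1)
  let k : CommRingCat.of E ⟶ CommRingCat.of C :=
    Spec.preimage (e.inv ≫ pullback.fst V.hom g ≫ V.left.isoSpec.hom)
  have hpb : CategoryTheory.IsPullback (Spec.map (CommRingCat.ofHom (algebraMap A₀ C))) (Spec.map k) g (Spec.map t) := by
    refine (IsPullback.of_hasPullback V.hom g).flip.of_iso e (Iso.refl _) V.left.isoSpec (Iso.refl _) ?_ ?_ ?_ ?_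
    · exact (Category.comp_id _).trans he.symm
    · rw [Spec.map_preimage, e.hom_inv_id_assoc]
    · simp [g]
    · rw [ht, Iso.hom_inv_id_assoc, Iso.refl_hom, Category.comp_id]
  have hw : CommRingCat.ofHom (algebraMap A A₀) ≫ CommRingCat.ofHom (algebraMap A₀ C) = t ≫ k :=
    Spec.map_injective (by rw [Spec.map_comp, Spec.map_comp]; exact hpb.w)
  letI : Algebra A C := ((algebraMap A₀ C).comp (algebraMap A A₀)).toAlgebra
  haveI : IsScalarTower A A₀ C := IsScalarTower.of_algebraMap_eq fun _ => rfl
  let kA : E →ₐ[A] C := { k.hom with commutes' := fun a => (ConcreteCategory.congr_hom hw a).symm }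
  let q : A₀ ⊗[A] E →ₐ[A₀] C := Algebra.TensorProduct.lift (Algebra.ofId A₀ C) kA fun _ _ => .all _ _
  refine ⟨E, inferInstance, inferInstance, het, ⟨AlgEquiv.ofBijective q ?_⟩⟩
  have hp := isPullback_SpecMap_of_isPushout _ _ _ _ (CommRingCat.isPushout_tensorProduct A A₀ E)
  haveI : IsIso (Spec.map (CommRingCat.ofHom q.toRingHom)) := by
    have e1 : Spec.map (CommRingCat.ofHom q.toRingHom) =
        (hpb.isoPullback ≪≫ hp.isoPullback.symm).hom := by
      refine hp.hom_ext ?_ ?_
      · rw [← Spec.map_comp]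
        simp only [Iso.trans_hom, Iso.symm_hom, Category.assoc, IsPullback.isoPullback_inv_fst]
        refine Eq.trans (congrArg Spec.map ?_) hpb.isoPullback_hom_fst.symm
        ext a
        exact q.commutes a
      · rw [← Spec.map_comp]
        simp only [Iso.trans_hom, Iso.symm_hom, Category.assoc, IsPullback.isoPullback_inv_snd]
        refine Eq.trans (Eq.trans (congrArg Spec.map ?_) rfl) hpb.isoPullback_hom_snd.symm
        ext b
        exact (congrArg (fun z => z * kA b) (map_one (Algebra.ofId A₀ C))).trans (one_mul _)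
    rw [e1]
    infer_instance
  haveI : IsIso (Scheme.Spec.map (CommRingCat.ofHom q.toRingHom).op) := ‹IsIso (Spec.map (CommRingCat.ofHom q.toRingHom))›
  haveI := isIso_of_fully_faithful Scheme.Spec (CommRingCat.ofHom q.toRingHom).op
  haveI := isIso_of_op (CommRingCat.ofHom q.toRingHom)
  exact ConcreteCategory.bijective_of_isIso (CommRingCat.ofHom q.toRingHom)

/-- weakly contractible weakly étale algebras descend along universal homeomorphisms -/
theorem IsUHRing.exists_algebra_lift {R R₀ : Type u} [CommRing R] [CommRing R₀] [Algebra R R₀]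
    (h : IsUHRing R R₀) (B : Type u) [CommRing B] [Algebra R₀ B] [Algebra.WeaklyEtale R₀ B]
    (hwc : EtPBC.IsWContractible B) :
    ∃ (H : Type u) (_ : CommRing H) (_ : Algebra R H),
      Algebra.WeaklyEtale R H ∧ Nonempty (R₀ ⊗[R] H ≃ₐ[R₀] B) := by
  obtain ⟨B', _, _, _, _, hff, hBB', hTB'⟩ := WStrictLib.exists_indEtale_cover (A := R₀) (B := B)
  haveI := S0736.result B B' hBB'
  obtain ⟨r⟩ := hwc B' hff inferInstance
  obtain ⟨S, hS, ⟨e⟩⟩ := IndEtLib.exists_sys hTB'
  letI : Algebra R B := ((algebraMap R₀ B).comp (algebraMap R R₀)).toAlgebra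
  haveI : IsScalarTower R R₀ B := IsScalarTower.of_algebraMap_eq fun _ => rfl
  let H := Hensel.Henz R B
  let π : H →ₐ[R] B := Hensel.Henz.proj R B
  have hH : Algebra.WeaklyEtale R H := S0736.result R H (Hensel.isIndEtale_henz R B)
  let πT : R₀ ⊗[R] H →ₐ[R₀] B := Algebra.TensorProduct.lift (Algebra.ofId R₀ B) π fun _ _ => .all _ _
  have hπT : ∀ x : H, πT (1 ⊗ₜ x) = π x := fun x =>
    (congrArg (fun z => z * π x) (map_one (Algebra.ofId R₀ B))).trans (one_mul _)
  have hsurj : Function.Surjective πT := fun b => by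
    obtain ⟨j, y, hy⟩ := S.surj (e.symm (algebraMap B B' b))
    haveI := hS j
    obtain ⟨E, _, _, _, ⟨eE⟩⟩ := h.exists_etale_algebra_lift (S.A j)
    let p : R₀ ⊗[R] E →ₐ[R₀] B :=
      ((r.restrictScalars R₀).comp (e.toAlgHom.comp (S.ι j))).comp eE.toAlgHom
    let pE : E →ₐ[R] B := (p.restrictScalars R).comp Algebra.TensorProduct.includeRight
    have key : ∀ z, p z ∈ πT.range := fun z => by
      induction z using TensorProduct.induction_on with
      | zero => rw [map_zero]; exact zero_mem _
      | tmul a x =>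
        refine ⟨a ⊗ₜ Hensel.Henz.ofNbhd E pE x, ?_⟩
        show algebraMap R₀ B a * π (Hensel.Henz.ofNbhd E pE x) = _
        rw [show π = Hensel.Henz.proj R B from rfl, Hensel.Henz.proj_ofNbhd]
        show algebraMap R₀ B a * p (1 ⊗ₜ x) = _
        rw [← Algebra.smul_def, ← map_smul, TensorProduct.smul_tmul', smul_eq_mul, mul_one]
      | add x x' hx hx' => rw [map_add]; exact add_mem hx hx'
    obtain ⟨z, hz⟩ := key (eE.symm y)
    refine ⟨z, hz.trans ?_⟩
    show r (e (S.ι j (eE (eE.symm y)))) = b
    rw [eE.apply_symm_apply, hy, AlgEquiv.apply_symm_apply, r.commutes]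
    rfl
  letI : Algebra H (R₀ ⊗[R] H) := Algebra.TensorProduct.rightAlgebra
  haveI hT : Algebra.WeaklyEtale R₀ (R₀ ⊗[R] H) := inferInstance
  letI : Algebra (R₀ ⊗[R] H) B := πT.toRingHom.toAlgebra
  haveI : IsScalarTower R₀ (R₀ ⊗[R] H) B := IsScalarTower.of_algebraMap_eq fun a => (πT.commutes a).symm
  haveI := WEtLib.cancel (A := R₀) (B := R₀ ⊗[R] H) B
  haveI : Module.Flat (R₀ ⊗[R] H) B := Algebra.WeaklyEtale.flat
  have hs : Function.Surjective (Algebra.ofId (R₀ ⊗[R] H) B) := hsurj
  haveI : (RingHom.ker (Algebra.ofId (R₀ ⊗[R] H) B)).Pure :=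
    Module.Flat.of_linearEquiv (Ideal.quotientKerAlgEquivOfSurjective hs).toLinearEquiv
  let ι : H →+* R₀ ⊗[R] H := (Algebra.TensorProduct.includeRight (R := R) (A := R₀) (B := H)).toRingHom
  have hι : ι.IsIntegral ∧ Function.Injective (PrimeSpectrum.comap ι) := by
    have h1 := h.tensor H
    let c := (Algebra.TensorProduct.comm R H R₀).toRingEquiv
    have e1 : ι = c.toRingHom.comp (algebraMap H (H ⊗[R] R₀)) := RingHom.ext fun x => rfl
    constructor
    · rw [e1]
      exact RingHom.IsIntegral.trans _ _ h1.isIntegral_algebraMap (RingHom.isIntegral_of_surjective _ c.surjective)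
    · rw [e1, PrimeSpectrum.comap_comp]
      exact h1.injective_comap.comp (PrimeSpectrum.comap_injective_of_surjective _ c.surjective)
  have hinj : Function.Injective πT := by
    refine (injective_iff_map_eq_zero πT).2 fun z hz => ?_
    have hz' : z ∈ RingHom.ker (Algebra.ofId (R₀ ⊗[R] H) B) := hz
    obtain ⟨y, hy, hzy⟩ := Ideal.exists_eq_mul_of_pure hz'
    have hu : IsUnit (1 - y) := by
      by_contra hu
      obtain ⟨M, hM, hyM⟩ := exists_max_ideal_of_mem_nonunits hu
      haveI := hM
      haveI := Ideal.isMaximal_comap_of_isIntegral_of_isMaximal' ι hι.1 M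
      letI : Algebra H B := π.toRingHom.toAlgebra
      haveI : Algebra.IsIntegral H B := by
        refine ⟨fun b => ?_⟩
        have e1 : π.toRingHom = πT.toRingHom.comp ι := RingHom.ext fun x => (hπT x).symm
        have h2 : π.toRingHom.IsIntegral :=
          e1 ▸ RingHom.IsIntegral.trans _ _ hι.1 (RingHom.isIntegral_of_surjective _ hsurj)
        exact h2 b
      have hm : RingHom.ker (algebraMap H B) ≤ M.comap ι := fun x hx => by
        by_contra hxm
        obtain ⟨a, i, hi, hai⟩ := Ideal.IsMaximal.exists_inv inferInstance hxm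
        have h3 : π i = 1 := by
          have := congrArg π hai
          rwa [map_add, map_mul, show π x = 0 from hx, mul_zero, zero_add, map_one] at this
        exact (Ideal.IsMaximal.ne_top inferInstance)
          (Ideal.eq_top_of_isUnit_mem _ hi (Hensel.Henz.isUnit_of_proj_eq_one h3))
      obtain ⟨n, hn, hn'⟩ := Ideal.exists_ideal_over_maximal_of_isIntegral (M.comap ι) hm
      let N : PrimeSpectrum (R₀ ⊗[R] H) := ⟨n.comap πT.toRingHom, Ideal.comap_isPrime _ _⟩
      have hNM : N = ⟨M, hM.isPrime⟩ := hι.2 (PrimeSpectrum.ext (by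
        show (n.comap πT.toRingHom).comap ι = M.comap ι
        rw [← hn', Ideal.comap_comap]
        exact congrArg (Ideal.comap · n) (RingHom.ext fun x => hπT x)))
      have hyM' : y ∈ M := by
        have : y ∈ n.comap πT.toRingHom := by
          rw [Ideal.mem_comap, show πT.toRingHom y = 0 from hy]
          exact zero_mem _
        rwa [show n.comap πT.toRingHom = M from congrArg PrimeSpectrum.asIdeal hNM] at this
      exact hM.ne_top ((Ideal.eq_top_iff_one M).2 (by simpa using M.add_mem hyM hyM'))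
    have h0 : z * (1 - y) = 0 := by rw [mul_sub, mul_one, ← hzy, sub_self]
    exact hu.mul_left_eq_zero.1 h0
  exact ⟨H, inferInstance, inferInstance, hH, ⟨AlgEquiv.ofBijective πT ⟨hinj, hsurj⟩⟩⟩

end Groth.Agent.ProEtPush13
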